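import Mathlib
import Cfsg.Agent.Nodes.WittModel
import Cfsg.Agent.TitsThree.WittFrame
import Cfsg.Agent.KFacts.Mult.Asm
import Cfsg.Agent.Nodes.WittRGD
import Cfsg.Agent.TitsThree.KInstSp
import Cfsg.Agent.KFacts.MulDef
set_option linter.all false

-- merged: Cfsg.Agent.KFacts.Mult.NotP
section

/-!
# The root group datum of a Witt frame in any characteristic

`not_isPGroup` : the axiom `notp` of a root group datum follows from the others and `X_{-i} ≠ X_i`.
`rgd` : `WittRGD.rgd` without the hypothesis that `p` is odd; `rgdM` : the same for models (`PSp`, ...).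
-/

set_option autoImplicit false
set_option linter.unusedSectionVars false

namespace Cfsg.Agent.KFacts.Mult.NotP

open Cfsg.Agent.ChevalleyStructure.CoxeterGeom Cfsg.Agent.Tits.Roots Cfsg.Agent.Nodes.TypeC
open Cfsg.Agent.Nodes.Comb Cfsg.Agent.Nodes.Reps Cfsg.Agent.Nodes.WittRoot Cfsg.Agent.Nodes.BNOf
open Cfsg.Agent.Nodes.WittRGD Cfsg.Agent.Nodes.RGDLib Cfsg.Agent.Nodes.WittModel
open Cfsg.Agent.TitsThree Cfsg.Agent.TitsThree.Siegel Cfsg.Agent.TitsThree.WittFrame
  Cfsg.Agent.TitsThree.WittWeyl Cfsg.Agent.TitsThree.FrameCN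
open scoped commutatorElement

theorem not_isPGroup {Y : Type*} [Group Y] [Finite Y] {p : ℕ} [Fact p.Prime] {Xp Xm T : Subgroup Y} {n : Y}
    (hT : (Nat.card T).Coprime p)
    (hr : ∀ u ∈ Xm, u ≠ 1 → ∃ a ∈ Xp, ∃ t ∈ T, ∃ b ∈ Xp, u = a * t * n * b)
    (hcj : ∀ a ∈ Xp, n * a * n⁻¹ ∈ Xm) (hnn : n * n ∈ T) (hn : n ∈ Xp ⊔ Xm)
    (hne : ∃ a ∈ Xp, n * a * n⁻¹ ∉ Xp) : ¬ IsPGroup p ↥(Xp ⊔ Xm) := by
  intro hP
  set P : Subgroup Y := Xp ⊔ Xm with hPdef
  have hpP : Xp ≤ P := le_sup_left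
  have hmP : Xm ≤ P := le_sup_right
  have hT1 : ∀ t ∈ T, t ∈ P → t = 1 := by
    intro t ht htP
    obtain ⟨k, hk⟩ := hP ⟨t, htP⟩
    have hk' : t ^ p ^ k = 1 := congrArg Subtype.val hk
    have h1 : orderOf t ∣ p ^ k := orderOf_dvd_of_pow_eq_one hk'
    have h2 : orderOf t ∣ Nat.card T := by
      have := orderOf_dvd_natCard (⟨t, ht⟩ : T)
      rwa [Subgroup.orderOf_mk] at this
    have h3 : (Nat.card T).Coprime (p ^ k) := Nat.Coprime.pow_right k hT
    have h4 := Nat.eq_one_of_dvd_coprimes h3 h2 h1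
    exact orderOf_eq_one_iff.1 h4
  have hnn1 : n * n = 1 := hT1 _ hnn (mul_mem hn hn)
  have hr1 : ∀ u ∈ Xm, u = 1 ∨ ∃ a ∈ Xp, ∃ b ∈ Xp, u = a * n * b := by
    intro u hu
    by_cases h1 : u = 1
    · exact Or.inl h1
    · right
      obtain ⟨a, ha, t, ht, b, hb, e⟩ := hr u hu h1
      have h2 : t = 1 := by
        apply hT1 t ht
        have h3 : t = a⁻¹ * u * b⁻¹ * n⁻¹ := by rw [e]; group
        rw [h3]
        exact mul_mem (mul_mem (mul_mem (inv_mem (hpP ha)) (hmP hu)) (inv_mem (hpP hb))) (inv_mem hn)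
      rw [h2, mul_one] at e
      exact ⟨a, ha, b, hb, e⟩
  -- the double coset decomposition
  have hdec : ∀ g ∈ P, g ∈ Xp ∨ ∃ a ∈ Xp, ∃ b ∈ Xp, g = a * n * b := by
    have hstep : ∀ x, x ∈ Xp ∨ x ∈ Xm → ∀ y, (y ∈ Xp ∨ ∃ a ∈ Xp, ∃ b ∈ Xp, y = a * n * b) →
        (x * y ∈ Xp ∨ ∃ a ∈ Xp, ∃ b ∈ Xp, x * y = a * n * b) := by
      rintro x (hx | hx) y hy
      · rcases hy with hy | ⟨a, ha, b, hb, rfl⟩
        · exact Or.inl (mul_mem hx hy)
        · exact Or.inr ⟨x * a, mul_mem hx ha, b, hb, by group⟩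
      · rcases hr1 x hx with rfl | ⟨a, ha, b, hb, rfl⟩
        · rwa [one_mul]
        · rcases hy with hy | ⟨a', ha', b', hb', rfl⟩
          · exact Or.inr ⟨a, ha, b * y, mul_mem hb hy, by group⟩
          · have h1 : a * n * b * (a' * n * b') = a * (n * (b * a') * n⁻¹) * (n * n) * b' := by group
            rw [h1, hnn1, mul_one]
            rcases hr1 _ (hcj _ (mul_mem hb ha')) with h2 | ⟨a'', ha'', b'', hb'', h2⟩
            · left; rw [h2, mul_one]; exact mul_mem ha hb'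
            · right
              rw [h2]
              exact ⟨a * a'', mul_mem ha ha'', b'' * b', mul_mem hb'' hb', by group⟩
    intro g hg
    rw [hPdef, Subgroup.sup_eq_closure] at hg
    induction hg using Subgroup.closure_induction_left with
    | one => exact Or.inl (one_mem _)
    | mul_left x hx y _ hy => exact hstep x hx y hy
    | inv_mul_cancel x hx y _ hy =>
      refine hstep x⁻¹ ?_ y hy
      rcases hx with hx | hx
      · exact Or.inl (inv_mem hx)
      · exact Or.inr (inv_mem hx)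
  obtain ⟨a₀, ha₀, hna₀⟩ := hne
  have hnX : n ∉ Xp := fun h => hna₀ (mul_mem (mul_mem h ha₀) (inv_mem h))
  have hnil : Group.IsNilpotent P := hP.isNilpotent
  have h1 : Xp.subgroupOf P < ⊤ := by
    rw [lt_top_iff_ne_top]
    intro h2
    rw [Subgroup.subgroupOf_eq_top] at h2
    exact hnX (h2 hn)
  have h2 := (Group.normalizerCondition_of_isNilpotent (h := hnil)) _ h1
  obtain ⟨y, hy, hyU⟩ := SetLike.exists_of_lt h2
  have hy' : ∀ a ∈ Xp, (y : Y) * a * (y : Y)⁻¹ ∈ Xp := by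
    intro a ha
    have h4 := (Subgroup.mem_normalizer_iff.1 hy ⟨a, hpP ha⟩).1 (Subgroup.mem_subgroupOf.2 ha)
    exact Subgroup.mem_subgroupOf.1 h4
  rcases hdec y y.2 with h3 | ⟨a, ha, b, hb, h3⟩
  · exact hyU (Subgroup.mem_subgroupOf.2 h3)
  · apply hna₀
    have h4 := hy' (b⁻¹ * a₀ * b) (mul_mem (mul_mem (inv_mem hb) ha₀) hb)
    have h5 : n * a₀ * n⁻¹ = a⁻¹ * (y * (b⁻¹ * a₀ * b) * (y : Y)⁻¹) * a := by rw [h3]; group
    rw [h5]
    exact mul_mem (mul_mem (inv_mem ha) h4) ha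

variable {F : Type*} [Field F] {V : Type*} [AddCommGroup V] [Module F V] {H : HForm F V} {n : ℕ}
  {Fr : Frame H (Fin n)} {G0 : Subgroup (V ≃ₗ[F] V)} (hA : Amb Fr G0)

/-- the first vector of the pair is fixed by the simple root group -/
theorem rg_sr_apply (i : Fin n) {u : V ≃ₗ[F] V} (hu : u ∈ rg Fr (sr i)) : u (Fr.b (i, true)) = Fr.b (i, true) := by
  rw [rg_sr] at hu
  by_cases hi : (i : ℕ) + 1 < n
  · have hnx : nx i = (⟨i + 1, hi⟩, false) := by unfold nx; rw [dif_pos hi]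
    have hne' : ((i, true) : Fin n × Bool).1 ≠ (nx i).1 := by rw [hnx]; simp [Fin.ext_iff]
    rw [PG_ne Fr hne'] at hu
    obtain ⟨t, rfl⟩ := hu
    refine X_apply_of_ne Fr hne' (z := (i, true)) ?_ ?_ t
    · intro e; have := congrArg Prod.snd e; simp at this
    · rw [hnx]; intro e; have := congrArg Prod.fst e; simp [Fin.ext_iff] at this
  · have hnx : nx i = (i, true) := by unfold nx; rw [dif_neg hi]
    rw [hnx, PG_self] at hu
    obtain ⟨q, rfl⟩ := hu
    refine Z_apply_of_ne Fr (x := (i, true)) (z := (i, true)) ?_ q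
    intro e; have := congrArg Prod.snd e; simp at this

include hA

theorem conj_rg {p0 : Fr.Adm} (hp0 : p0.c ≠ 0) {W : Type*} [Group W] (cs : CoxeterSystem (CoxeterMatrix.B n) W)
    (i : Fin n) (x : Fin n → ℤ) (hx : IsRoot cs (isCartan n) x) :
    cj (nn Fr p0 i) (rg Fr x) = rg Fr (rep cs (isCartan n) (cs.simple i) x) := by
  obtain ⟨a, b, hab, e⟩ := exists_of_isRoot cs hx
  rw [rg_eq Fr hab e, rep_simple, rg_eq Fr (hab.sg i) (ee_refl_of e)]
  exact hA.cj_sg (nn_mem hA p0 i) (mono_nn hp0 i) hab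

theorem notp [Finite V] {p : ℕ} [Fact p.Prime] [CharP F p] {p0 : Fr.Adm} (hp0 : p0.c ≠ 0) {W : Type*} [Group W]
    (cs : CoxeterSystem (CoxeterMatrix.B n) W) (i : Fin n) :
    ¬ IsPGroup p ↥(rg Fr (sr i) ⊔ rg Fr (-sr i)) := by
  have : Finite (V ≃ₗ[F] V) := Finite.of_injective (fun g : V ≃ₗ[F] V => (g : V → V)) DFunLike.coe_injective
  have h1 : cj (nn Fr p0 i) (rg Fr (sr i)) = rg Fr (-sr i) := by
    rw [conj_rg hA hp0 cs i _ (isRoot_sr cs _ i), rep_simple_sr]
  refine not_isPGroup (T := Tor Fr G0) (n := nn Fr p0 i) (tcop hA) (fun u hu hne => Cfsg.Agent.Nodes.WittRGD.rk1 hA hp0 i hu hne) ?_ ?_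
    (nn_mem_sup p0 i) ?_
  · intro a ha
    rw [← h1]; exact conj_mem_cj.2 ha
  · have := (nsys hA hp0).rel i i
    rwa [(CoxeterMatrix.B n).diagonal, pow_one] at this
  · by_contra hcon
    push Not at hcon
    have h2 : rg Fr (-sr i) ≤ rg Fr (sr i) := by
      rw [← h1]
      rintro _ ⟨a, ha, rfl⟩
      exact hcon a ha
    have h3 : nn Fr p0 i ∈ rg Fr (sr i) := (sup_le le_rfl h2) (nn_mem_sup p0 i)
    have h4 := rg_sr_apply i h3
    obtain ⟨l, hl, e⟩ := mono_nn (Fr := Fr) hp0 i (i, true)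
    have h5 : ((i, true) : Fin n × Bool) ≠ sg i (i, true) := by
      by_cases hi : (i : ℕ) + 1 < n
      · rw [sg_up hi]; simp [Fin.ext_iff]
      · rw [sg_last hi]; simp
    exact not_prop h5 hl (h4.symm.trans e)

/-- **The root group datum of a Witt frame**, any characteristic. -/
theorem rgd [Finite V] {p : ℕ} [Fact p.Prime] [CharP F p] {p0 : Fr.Adm} (hp0 : p0.c ≠ 0)
    {W : Type*} [Group W] (cs : CoxeterSystem (CoxeterMatrix.B n) W) :
    RGD cs (isCartan n) p (Tor Fr G0) (nn Fr p0) (rg Fr) where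
  nsys := nsys hA hp0
  conj := conj_rg hA hp0 cs
  tor x hx t ht := by
    obtain ⟨a, b, hab, e⟩ := exists_of_isRoot cs hx
    rw [rg_eq Fr hab e]
    exact hA.cj_id ht.1 ht.2 hab
  comm x y hx hy hxy hxy' a ha b hb := comm_rg cs hx hy hxy hxy' ha hb
  rk1 i u hu hne := Cfsg.Agent.Nodes.WittRGD.rk1 hA hp0 i hu hne
  pgrp i := by rw [rg_sr]; exact isPGroup_PG _ _
  notp i := notp hA hp0 cs i
  tcop := tcop hA

omit hA

/-- **The root group datum of a model**, any characteristic. -/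
theorem rgdM {K : Type*} [Group K] (M : Model Fr K) (hA : Amb Fr M.I) [Finite V] {p : ℕ} [Fact p.Prime] [CharP F p]
    {p0 : Fr.Adm} (hp0 : p0.c ≠ 0) {W : Type*} [Group W] (cs : CoxeterSystem (CoxeterMatrix.B n) W) :
    RGD cs (isCartan n) p (Cfsg.Agent.Nodes.WittModel.T M) (nw M hA p0) (Cfsg.Agent.Nodes.WittModel.X M) := by
  have : Finite (V ≃ₗ[F] V) := Finite.of_injective (fun g : V ≃ₗ[F] V => (g : V → V)) DFunLike.coe_injective
  have : Finite W := finite_W cs
  exact rgd_map_of_ker_le_center (rgd_restrict (rgd hA hp0 cs) M.I (fun x _ => hA.rg_le x)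
    (fun i => nn_mem hA p0 i)) M.φ (ker_le_center M hA)

end Cfsg.Agent.KFacts.Mult.NotP

end

-- merged: Cfsg.Agent.KFacts.Mult.RelC
section

/-!
# Root elements of `Sp_{2n}(2)`, `n ≥ 4`, lift to every double cover

`CSys X Z` : root elements `X x y` (root `e_x + e_y`, `x`, `y` signed indices) and `Z x` (root `2 e_x`) with the
relations of `Sp_{2n}(2)`.

`exists_lift` : if `π : L → G` has kernel `{1, c}`, `c` central, and there are at least four indices, then the whole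
system lifts: `∃ T U, CSys T U ∧ π T = X ∧ π U = Z`.
-/

set_option autoImplicit false
set_option linter.unusedSectionVars false

namespace Cfsg.Agent.KFacts.Mult.RelC

open Cfsg.Agent.TitsThree.WittFrame Cfsg.Agent.KFacts.Mult.RelBase
open scoped commutatorElement

/-! ### Group identities -/

section ident

variable {L : Type*} [Group L]

/-- `⁅a, ⁅b, c⁆⁆ = ⁅⁅a, b⁆, c⁆` -/
theorem hw {a b c : L} (h1 : a * c = c * a) (h2 : ⁅b, c⁆ * c = c * ⁅b, c⁆) (h3 : ⁅b, c⁆ * ⁅a, b⁆ = ⁅a, b⁆ * ⁅b, c⁆) :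
    ⁅a, ⁅b, c⁆⁆ = ⁅⁅a, b⁆, c⁆ := by
  have e1 : a * ⁅b, c⁆ * a⁻¹ = ⁅a, b⁆ * (⁅b, c⁆ * c) * ⁅a, b⁆⁻¹ * c⁻¹ := by
    have h4 : a * c * a⁻¹ = c := by rw [h1, mul_inv_cancel_right]
    have h4' : a * c⁻¹ * a⁻¹ = c⁻¹ := by
      have : a * c⁻¹ * a⁻¹ = (a * c * a⁻¹)⁻¹ := by group
      rw [this, h4]
    calc a * ⁅b, c⁆ * a⁻¹ = (a * b * a⁻¹) * (a * c * a⁻¹) * (a * b * a⁻¹)⁻¹ * (a * c⁻¹ * a⁻¹) := by
          rw [commutatorElement_def]; group
      _ = (a * b * a⁻¹) * c * (a * b * a⁻¹)⁻¹ * c⁻¹ := by rw [h4, h4']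
      _ = ⁅a, b⁆ * (⁅b, c⁆ * c) * ⁅a, b⁆⁻¹ * c⁻¹ := by
          rw [commutatorElement_def, commutatorElement_def]; group
  have e2 : ⁅a, ⁅b, c⁆⁆ = a * ⁅b, c⁆ * a⁻¹ * ⁅b, c⁆⁻¹ := commutatorElement_def _ _
  rw [e2, e1, h2]
  have h5 : ⁅b, c⁆ * ⁅a, b⁆⁻¹ = ⁅a, b⁆⁻¹ * ⁅b, c⁆ := (Commute.inv_right (show Commute ⁅b, c⁆ ⁅a, b⁆ from h3)).eq
  have h6 : ⁅b, c⁆ * c⁻¹ = c⁻¹ * ⁅b, c⁆ := (Commute.inv_right (show Commute ⁅b, c⁆ c from h2)).eq
  calc ⁅a, b⁆ * (c * ⁅b, c⁆) * ⁅a, b⁆⁻¹ * c⁻¹ * ⁅b, c⁆⁻¹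
      = ⁅a, b⁆ * c * (⁅b, c⁆ * ⁅a, b⁆⁻¹) * c⁻¹ * ⁅b, c⁆⁻¹ := by simp only [mul_assoc]
    _ = ⁅a, b⁆ * c * ⁅a, b⁆⁻¹ * (⁅b, c⁆ * c⁻¹) * ⁅b, c⁆⁻¹ := by rw [h5]; simp only [mul_assoc]
    _ = ⁅a, b⁆ * c * ⁅a, b⁆⁻¹ * c⁻¹ := by rw [h6]; group
    _ = ⁅⁅a, b⁆, c⁆ := (commutatorElement_def _ _).symm

theorem comm_mul_self {a b : L} : ⁅a, b⁆ * b = a * b * a⁻¹ := by rw [commutatorElement_def]; group

/-- The identity for the long root elements. -/
theorem hwZ {a b c ζ t s s' m : L} (h1 : a * c = c * a) (hm : ⁅a, b⁆ = m) (hbc : ⁅b, c⁆ = ζ * t) (hat : ⁅a, t⁆ = s')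
    (hmt : ⁅m, t⁆ = s) (hζm : ζ * m = m * ζ) (hζt : ζ * t = t * ζ) (hζs : ζ * s' = s' * ζ) (hζc : ζ * c = c * ζ)
    (htc : t * c = c * t) (hsc : s * c = c * s) (hss : s * s' = s' * s) (hs : s * s = 1) (hs' : s' * s' = 1) :
    ⁅a, ζ⁆ * s = ⁅m, c⁆ * s' := by
  have e1 : a * (ζ * t) * a⁻¹ = m * (ζ * t * c) * m⁻¹ * c⁻¹ := by
    have h4 : a * c * a⁻¹ = c := by rw [h1, mul_inv_cancel_right]
    have h4' : a * c⁻¹ * a⁻¹ = c⁻¹ := by
      have : a * c⁻¹ * a⁻¹ = (a * c * a⁻¹)⁻¹ := by group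
      rw [this, h4]
    calc a * (ζ * t) * a⁻¹ = (a * b * a⁻¹) * (a * c * a⁻¹) * (a * b * a⁻¹)⁻¹ * (a * c⁻¹ * a⁻¹) := by
          rw [← hbc, commutatorElement_def]; group
      _ = (a * b * a⁻¹) * c * (a * b * a⁻¹)⁻¹ * c⁻¹ := by rw [h4, h4']
      _ = ⁅a, b⁆ * (⁅b, c⁆ * c) * ⁅a, b⁆⁻¹ * c⁻¹ := by
          rw [commutatorElement_def, commutatorElement_def]; group
      _ = m * (ζ * t * c) * m⁻¹ * c⁻¹ := by rw [hm, hbc]
  have e2 : a * (ζ * t) * a⁻¹ = ⁅a, ζ⁆ * ζ * (s' * t) := by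
    rw [← hat, commutatorElement_def, commutatorElement_def]; group
  have e3 : ⁅a, ζ⁆ * ζ * (s' * t) = m * (ζ * t * c) * m⁻¹ * c⁻¹ := e2.symm.trans e1
  -- move `ζ` to the right
  have c1 : Commute ζ m := hζm
  have c2 : Commute ζ t := hζt
  have c3 : Commute ζ s' := hζs
  have c4 : Commute ζ c := hζc
  have e4 : m * (ζ * t * c) * m⁻¹ * c⁻¹ = m * t * c * m⁻¹ * c⁻¹ * ζ := by
    have h5 : ζ * (t * c * m⁻¹ * c⁻¹) = (t * c * m⁻¹ * c⁻¹) * ζ :=
      (((c2.mul_right c4).mul_right c1.inv_right).mul_right c4.inv_right).eq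
    calc m * (ζ * t * c) * m⁻¹ * c⁻¹ = m * (ζ * (t * c * m⁻¹ * c⁻¹)) := by simp only [mul_assoc]
      _ = m * t * c * m⁻¹ * c⁻¹ * ζ := by rw [h5]; simp only [mul_assoc]
  have e5 : ⁅a, ζ⁆ * ζ * (s' * t) = ⁅a, ζ⁆ * (s' * t) * ζ := by
    rw [mul_assoc, (c3.mul_right c2).eq, ← mul_assoc]
  rw [e4, e5] at e3
  have e6 : ⁅a, ζ⁆ * (s' * t) = m * t * c * m⁻¹ * c⁻¹ := mul_right_cancel e3
  -- `t m⁻¹ t⁻¹ = m⁻¹ s`
  have e7 : t * m⁻¹ = m⁻¹ * s * t := by
    rw [← hmt, commutatorElement_def]; group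
  have c5 : Commute t c := htc
  have c6 : Commute s c := hsc
  have e8 : m * t * c * m⁻¹ * c⁻¹ = ⁅m, c⁆ * s * t := by
    calc m * t * c * m⁻¹ * c⁻¹ = m * (t * c) * m⁻¹ * c⁻¹ := by simp only [mul_assoc]
      _ = m * (c * t) * m⁻¹ * c⁻¹ := by rw [htc]
      _ = m * c * (t * m⁻¹) * c⁻¹ := by simp only [mul_assoc]
      _ = m * c * (m⁻¹ * s * t) * c⁻¹ := by rw [e7]
      _ = m * c * m⁻¹ * ((s * t) * c⁻¹) := by simp only [mul_assoc]
      _ = m * c * m⁻¹ * (c⁻¹ * (s * t)) := by rw [((c6.mul_left c5).inv_right).eq]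
      _ = ⁅m, c⁆ * s * t := by rw [commutatorElement_def]; simp only [mul_assoc]
  rw [e8, ← mul_assoc] at e6
  have e9 : ⁅a, ζ⁆ * s' = ⁅m, c⁆ * s := mul_right_cancel e6
  calc ⁅a, ζ⁆ * s = ⁅a, ζ⁆ * (s' * s') * s := by rw [hs', mul_one]
    _ = (⁅a, ζ⁆ * s') * (s' * s) := by simp only [mul_assoc]
    _ = (⁅m, c⁆ * s) * (s * s') := by rw [e9, hss]
    _ = ⁅m, c⁆ * (s * s) * s' := by simp only [mul_assoc]
    _ = ⁅m, c⁆ * s' := by rw [hs, mul_one]

end ident

/-! ### The system -/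

variable {ι : Type*} [DecidableEq ι] {G L : Type*} [Group G] [Group L]

/-- The relations of the root elements of `Sp_{2n}(2)`. -/
structure CSys (X : ι × Bool → ι × Bool → G) (Z : ι × Bool → G) : Prop where
  sqX : ∀ x y, x.1 ≠ y.1 → X x y * X x y = 1
  sqZ : ∀ x, Z x * Z x = 1
  swap : ∀ x y, x.1 ≠ y.1 → X x y = X y x
  comXX : ∀ x y z u, x.1 ≠ y.1 → z.1 ≠ u.1 → z ≠ neg x → z ≠ neg y → u ≠ neg x → u ≠ neg y →
    X x y * X z u = X z u * X x y
  comXX' : ∀ x y, x.1 ≠ y.1 → X x y * X x (neg y) = X x (neg y) * X x y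
  comZX : ∀ x y z, y.1 ≠ z.1 → y ≠ neg x → z ≠ neg x → Z x * X y z = X y z * Z x
  comZZ : ∀ x y, x.1 ≠ y.1 → Z x * Z y = Z y * Z x
  br : ∀ x y z, x.1 ≠ y.1 → y.1 ≠ z.1 → x.1 ≠ z.1 → ⁅X x y, X (neg y) z⁆ = X x z
  brZ : ∀ x y, x.1 ≠ y.1 → ⁅X x (neg y), Z y⁆ = Z x * X x y

theorem comm_congr {π : L →* G} {c : L} (hk : Ker2 π c) {a a' b b' : L} (h1 : π a = π a') (h2 : π b = π b') :
    ⁅a, b⁆ = ⁅a', b'⁆ := by
  obtain ⟨z, hz, -, rfl⟩ := hk.exists_cen h1
  obtain ⟨w, hw, -, rfl⟩ := hk.exists_cen h2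
  have hz' : Commute z⁻¹ b'⁻¹ := ((show Commute z b' from hz b').inv_left).inv_right
  rw [commutatorElement_def, commutatorElement_def, mul_inv_rev, mul_inv_rev]
  calc z * a' * (w * b') * (a'⁻¹ * z⁻¹) * (b'⁻¹ * w⁻¹)
      = z * a' * (w * b') * a'⁻¹ * (z⁻¹ * b'⁻¹) * w⁻¹ := by simp only [mul_assoc]
    _ = z * a' * (w * b') * a'⁻¹ * (b'⁻¹ * z⁻¹) * w⁻¹ := by rw [hz'.eq]
    _ = z * (a' * w) * b' * a'⁻¹ * b'⁻¹ * z⁻¹ * w⁻¹ := by simp only [mul_assoc]
    _ = z * (w * a') * b' * a'⁻¹ * b'⁻¹ * z⁻¹ * w⁻¹ := by rw [hw a']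
    _ = (z * w) * (a' * b' * a'⁻¹ * b'⁻¹) * (z⁻¹ * w⁻¹) := by simp only [mul_assoc]
    _ = a' * b' * a'⁻¹ * b'⁻¹ := by
      generalize a' * b' * a'⁻¹ * b'⁻¹ = g
      have h3 : (z * w) * g = g * (w * z) := by
        rw [mul_assoc, hw g, ← mul_assoc, hz g, mul_assoc, hz w]
      rw [h3]; group

/-- At least four indices. -/
def Four (ι : Type*) : Prop := ∀ a b d : ι, ∃ u, u ≠ a ∧ u ≠ b ∧ u ≠ d

omit [DecidableEq ι] in
theorem neg2 (x : ι × Bool) : neg (neg x) = x := Cfsg.Agent.TitsThree.WittFrame.neg_neg x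

omit [DecidableEq ι] in
theorem ne_neg_of {x y : ι × Bool} (h : x.1 ≠ y.1) : x ≠ neg y := fun e => h (by rw [e, neg_fst])

omit [DecidableEq ι] in
theorem ne_neg_self (x : ι × Bool) : x ≠ neg x := by
  intro e
  have := congrArg Prod.snd e
  rw [neg_snd] at this
  cases hx : x.2 <;> rw [hx] at this <;> simp at this

omit [DecidableEq ι] in
theorem eq_or_neg {x y : ι × Bool} (h : x.1 = y.1) : x = y ∨ x = neg y := by
  obtain ⟨a, s⟩ := x
  obtain ⟨b, t⟩ := y
  simp only at h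
  subst h
  cases s <;> cases t <;> simp [neg]

section LCfacts

variable {X : ι × Bool → ι × Bool → G} {Z : ι × Bool → G} {π : L →* G} {c : L}
  (S : CSys X Z) (hk : Ker2 π c) (hX : ∀ x y, X x y ∈ π.range) (hZ : ∀ x, Z x ∈ π.range) (h4 : Four ι)

include S hk hX h4

theorem lcZX {x y z : ι × Bool} (hxy : x.1 ≠ y.1) (hx : x ≠ neg z) (hy : y ≠ neg z) : LC π (Z z) (X x y) := by
  obtain ⟨u, hux, huy, huz⟩ := h4 x.1 y.1 z.1
  have e := S.br x (u, true) y hux.symm huy hxy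
  rw [← e]
  refine LC.commutator hk (hX _ _) (hX _ _) ?_ ?_
  · exact S.comZX z x (u, true) hux.symm hx (ne_neg_of huz)
  · exact S.comZX z (neg (u, true)) y huy (ne_neg_of huz) hy

include hZ

theorem lcXX_disj {x y z u : ι × Bool} (hxy : x.1 ≠ y.1) (hzu : z.1 ≠ u.1) (hxz : x.1 ≠ z.1) (hxu : x.1 ≠ u.1)
    (hyz : y.1 ≠ z.1) (hyu : y.1 ≠ u.1) : LC π (X x y) (X z u) := by
  have e := S.brZ z u hzu
  have h1 : LC π (X x y) (Z z * X z u) := by
    rw [← e]
    refine LC.commutator hk (hX _ _) (hZ _) ?_ ?_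
    · refine S.comXX x y z (neg u) hxy hzu (ne_neg_of hxz.symm) (ne_neg_of hyz.symm) (ne_neg_of ?_) (ne_neg_of ?_)
      · exact hxu.symm
      · exact hyu.symm
    · exact (S.comZX u x y hxy (ne_neg_of hxu) (ne_neg_of hyu)).symm
  exact LC.of_mul_left' (hZ _) h1 (lcZX S hk hX h4 hxy (ne_neg_of hxz) (ne_neg_of hyz)).symm

omit hZ in
theorem lcXX_60 {x y z : ι × Bool} (hxy : x.1 ≠ y.1) (hxz : x.1 ≠ z.1) (hyz : y.1 ≠ z.1) :
    LC π (X x y) (X x z) := by
  obtain ⟨u, hux, huy, huz⟩ := h4 x.1 y.1 z.1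
  have e := S.br x (u, true) z hux.symm huz hxz
  rw [← e]
  refine LC.commutator hk (hX _ _) (hX _ _) ?_ ?_
  · exact S.comXX x y x (u, true) hxy hux.symm (ne_neg_self x) (ne_neg_of hxy) (ne_neg_of hux) (ne_neg_of huy)
  · exact S.comXX x y (neg (u, true)) z hxy huz (ne_neg_of hux) (ne_neg_of huy) (ne_neg_of hxz.symm)
      (ne_neg_of hyz.symm)

theorem lcZZ {x y : ι × Bool} (hxy : x.1 ≠ y.1) : LC π (Z x) (Z y) := by
  obtain ⟨u, hux, huy, -⟩ := h4 x.1 y.1 y.1
  have e := S.brZ y (u, true) huy.symm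
  have h1 : LC π (Z x) (Z y * X y (u, true)) := by
    rw [← e]
    refine LC.commutator hk (hX _ _) (hZ _) ?_ ?_
    · exact S.comZX x y (neg (u, true)) huy.symm (ne_neg_of hxy.symm) (ne_neg_of hux)
    · exact S.comZZ x (u, true) hux.symm
  exact LC.of_mul_right (hX _ _) h1 (lcZX S hk hX h4 huy.symm (ne_neg_of hxy.symm) (ne_neg_of hux))

theorem sqX_lift {x y : ι × Bool} (hxy : x.1 ≠ y.1) : SqOne π (X x y) := by
  obtain ⟨u, hux, huy, -⟩ := h4 x.1 y.1 y.1
  have e := S.br x (u, true) y hux.symm huy hxy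
  refine SqOne.of_conj hk (u := X (neg (u, true)) y) (g := X x (u, true)) (hX _ _) (hX _ _) ?_ ?_ (S.sqX _ _ huy)
  · rw [← comm_mul_self, e]
  · rw [S.swap _ _ hxy, S.swap _ y huy]
    exact lcXX_60 S hk hX h4 hxy.symm huy.symm hux.symm

theorem sqZ_lift [Nontrivial ι] (x : ι × Bool) : SqOne π (Z x) := by
  obtain ⟨u, hu⟩ := exists_ne x.1
  have e := S.brZ x (u, true) hu.symm
  have hlc : LC π (Z x) (X x (u, true)) := lcZX S hk hX h4 hu.symm (ne_neg_self x) (ne_neg_of hu)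
  have h1 : SqOne π (Z x * X x (u, true)) := by
    refine SqOne.of_conj hk (u := Z (u, true)) (g := X x (neg (u, true))) (hZ _) (hX _ _) ?_ ?_ (S.sqZ _)
    · rw [← comm_mul_self, e]
    · refine LC.mul_left (hZ _) (lcZZ S hk hX hZ h4 hu.symm) ?_
      exact (lcZX S hk hX h4 hu.symm (ne_neg_of hu.symm) (ne_neg_self _)).symm
  have h2 := sqX_lift S hk hX hZ h4 (x := x) (y := (u, true)) hu.symm
  obtain ⟨b, hb⟩ := hX x (u, true)
  intro a ha
  have h3 := h1 (a * b) (by rw [map_mul, ha, hb])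
  have h4' := hlc a b ha hb
  have h5 := h2 b hb
  calc a * a = a * a * (b * b) := by rw [h5, mul_one]
    _ = a * (a * b) * b := by simp only [mul_assoc]
    _ = a * (b * a) * b := by rw [h4']
    _ = a * b * (a * b) := by simp only [mul_assoc]
    _ = 1 := h3

end LCfacts

/-! ### The lifts -/

section lift

variable {X : ι × Bool → ι × Bool → G} {Z : ι × Bool → G} {π : L →* G} {c : L}
  {lX : ι × Bool → ι × Bool → L} {lZ : ι × Bool → L}

/-- The data of this section: a system, a double cover, arbitrary lifts. -/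
structure Dat (X : ι × Bool → ι × Bool → G) (Z : ι × Bool → G) (π : L →* G) (c : L)
    (lX : ι × Bool → ι × Bool → L) (lZ : ι × Bool → L) : Prop where
  S : CSys X Z
  hk : Ker2 π c
  hlX : ∀ x y, π (lX x y) = X x y
  hlZ : ∀ x, π (lZ x) = Z x
  h4 : Four ι

variable (D : Dat X Z π c lX lZ)

/-- `⁅x̂_{x + z}, x̂_{y - z}⁆` -/
def P (lX : ι × Bool → ι × Bool → L) (x z y : ι × Bool) : L := ⁅lX x z, lX (neg z) y⁆

include D

theorem Dat.hX (x y : ι × Bool) : X x y ∈ π.range := ⟨_, D.hlX x y⟩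

theorem Dat.hZ (x : ι × Bool) : Z x ∈ π.range := ⟨_, D.hlZ x⟩

theorem map_P {x y z : ι × Bool} (hxy : x.1 ≠ y.1) (hxz : x.1 ≠ z.1) (hzy : z.1 ≠ y.1) :
    π (P lX x z y) = X x y := by
  rw [P, map_commutatorElement, D.hlX, D.hlX, D.S.br x z y hxz hzy hxy]

theorem P_indep {x y z z' : ι × Bool} (hxy : x.1 ≠ y.1) (hxz : x.1 ≠ z.1) (hzy : z.1 ≠ y.1) (hxz' : x.1 ≠ z'.1)
    (hzy' : z'.1 ≠ y.1) (hzz : z.1 ≠ z'.1) : P lX x z y = P lX x z' y := by
  have hbc : π ⁅lX (neg z) z', lX (neg z') y⁆ = X (neg z) y := by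
    rw [map_commutatorElement, D.hlX, D.hlX, D.S.br (neg z) z' y hzz hzy' hzy]
  have hab : π ⁅lX x z, lX (neg z) z'⁆ = X x z' := by
    rw [map_commutatorElement, D.hlX, D.hlX, D.S.br x z z' hxz hzz hxz']
  have h1 := hw (a := lX x z) (b := lX (neg z) z') (c := lX (neg z') y)
    (lcXX_disj D.S D.hk D.hX D.hZ D.h4 (x := x) (y := z) (z := neg z') (u := y) hxz hzy' hxz' hxy hzz hzy _ _
      (D.hlX _ _) (D.hlX _ _))
    (by
      refine (?_ : LC π (X (neg z) y) (X (neg z') y)) _ _ hbc (D.hlX _ _)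
      rw [D.S.swap (neg z) y hzy, D.S.swap (neg z') y hzy']
      exact lcXX_60 D.S D.hk D.hX D.h4 hzy.symm hzy'.symm hzz)
    (lcXX_disj D.S D.hk D.hX D.hZ D.h4 (x := neg z) (y := y) (z := x) (u := z') hzy hxz' hxz.symm hzz hxy.symm
      hzy'.symm _ _ hbc hab)
  calc P lX x z y = ⁅lX x z, ⁅lX (neg z) z', lX (neg z') y⁆⁆ :=
        comm_congr D.hk rfl (by rw [hbc]; exact D.hlX _ _)
    _ = ⁅⁅lX x z, lX (neg z) z'⁆, lX (neg z') y⁆ := h1
    _ = P lX x z' y := comm_congr D.hk (by rw [hab]; exact (D.hlX _ _).symm) rfl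

/-- The lift of `X x y`. -/
noncomputable def T (D : Dat X Z π c lX lZ) (x y : ι × Bool) : L :=
  P lX x ((D.h4 x.1 y.1 y.1).choose, true) y

theorem T_eq {x y z : ι × Bool} (hxy : x.1 ≠ y.1) (hxz : x.1 ≠ z.1) (hzy : z.1 ≠ y.1) : T D x y = P lX x z y := by
  obtain ⟨h1, h2, -⟩ := (D.h4 x.1 y.1 y.1).choose_spec
  set w := (D.h4 x.1 y.1 y.1).choose with hw
  show P lX x (w, true) y = _
  by_cases h : w = z.1
  · obtain ⟨u, hux, huy, huz⟩ := D.h4 x.1 y.1 z.1
    rw [P_indep D (z := (w, true)) (z' := (u, true)) hxy h1.symm h2 hux.symm huy (by rw [h]; exact huz.symm),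
      P_indep D (z := (u, true)) (z' := z) hxy hux.symm huy hxz hzy huz]
  · exact P_indep D hxy h1.symm h2 hxz hzy h

theorem map_T {x y : ι × Bool} (hxy : x.1 ≠ y.1) : π (T D x y) = X x y := by
  obtain ⟨h1, h2, -⟩ := (D.h4 x.1 y.1 y.1).choose_spec
  exact map_P D hxy h1.symm h2

theorem T_sq {x y : ι × Bool} (hxy : x.1 ≠ y.1) : T D x y * T D x y = 1 :=
  sqX_lift D.S D.hk D.hX D.hZ D.h4 hxy _ (map_T D hxy)

/-- commutators of arbitrary lifts -/
theorem br_lift {x y z : ι × Bool} (hxy : x.1 ≠ y.1) (hyz : y.1 ≠ z.1) (hxz : x.1 ≠ z.1) {a b : L}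
    (ha : π a = X x y) (hb : π b = X (neg y) z) : ⁅a, b⁆ = T D x z := by
  rw [T_eq D hxz hxy hyz]
  exact comm_congr D.hk (by rw [ha, D.hlX]) (by rw [hb, D.hlX])

theorem T_swap {x y : ι × Bool} (hxy : x.1 ≠ y.1) : T D x y = T D y x := by
  obtain ⟨u, hux, huy, -⟩ := D.h4 x.1 y.1 y.1
  have h1 : T D x y = ⁅lX x (u, true), lX (neg (u, true)) y⁆ := T_eq D hxy hux.symm huy
  have h2 : ⁅lX (neg (u, true)) y, lX x (u, true)⁆ = T D y x := by
    refine br_lift D (x := y) (y := neg (u, true)) (z := x) huy.symm hux hxy.symm ?_ ?_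
    · rw [D.hlX, D.S.swap _ y huy]
    · rw [D.hlX, neg2, D.S.swap x _ hux.symm]
  have h3 : T D x y = (T D y x)⁻¹ := by
    rw [h1, ← h2, commutatorElement_inv]
  rw [h3]
  exact inv_eq_of_mul_eq_one_left (T_sq D hxy.symm)

theorem lcXX_T {x y z u : ι × Bool} (hxy : x.1 ≠ y.1) (hzu : z.1 ≠ u.1) (h1 : z ≠ neg x) (h2 : z ≠ neg y)
    (h3 : u ≠ neg x) (h5 : u ≠ neg y) : T D x y * T D z u = T D z u * T D x y := by
  -- cases on the common indices
  have key60 : ∀ {x y u : ι × Bool}, x.1 ≠ y.1 → x.1 ≠ u.1 → u ≠ neg y → T D x y * T D x u = T D x u * T D x y := by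
    intro x y u hxy hxu huy
    by_cases h : y.1 = u.1
    · rcases eq_or_neg h.symm with rfl | h'
      · rfl
      · exact absurd h' huy
    · exact lcXX_60 D.S D.hk D.hX D.h4 hxy hxu h _ _ (map_T D hxy) (map_T D hxu)
  by_cases hzx : z.1 = x.1
  · rcases eq_or_neg hzx with rfl | h
    · exact key60 hxy hzu h5
    · exact absurd h h1
  by_cases hzy : z.1 = y.1
  · rcases eq_or_neg hzy with rfl | h
    · rw [T_swap D hxy]
      exact key60 hxy.symm hzu h3
    · exact absurd h h2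
  by_cases hux : u.1 = x.1
  · rcases eq_or_neg hux with rfl | h
    · rw [T_swap D hzu]
      exact key60 hxy hzu.symm h2
    · exact absurd h h3
  by_cases huy : u.1 = y.1
  · rcases eq_or_neg huy with rfl | h
    · rw [T_swap D hzu, T_swap D hxy]
      exact key60 hxy.symm hzu.symm h1
    · exact absurd h h5
  exact lcXX_disj D.S D.hk D.hX D.hZ D.h4 hxy hzu (Ne.symm hzx) (Ne.symm hux) (Ne.symm hzy) (Ne.symm huy) _ _
    (map_T D hxy) (map_T D hzu)

/-- `⁅x̂_{x - y}, ẑ_y⁆ x̃_{x + y}`, a lift of `Z x` -/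
noncomputable def Q (D : Dat X Z π c lX lZ) (x y : ι × Bool) : L := ⁅lX x (neg y), lZ y⁆ * T D x y

theorem map_Q {x y : ι × Bool} (hxy : x.1 ≠ y.1) : π (Q D x y) = Z x := by
  rw [Q, map_mul, map_commutatorElement, D.hlX, D.hlZ, map_T D hxy, D.S.brZ x y hxy, mul_assoc,
    D.S.sqX _ _ hxy, mul_one]

theorem Q_indep {x y y' : ι × Bool} (hxy : x.1 ≠ y.1) (hxy' : x.1 ≠ y'.1) (hyy : y.1 ≠ y'.1) :
    Q D x y = Q D x y' := by
  have hS := D.S
  have hbc : π ⁅lX y (neg y'), lZ y'⁆ = Z y * X y y' := by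
    rw [map_commutatorElement, D.hlX, D.hlZ, hS.brZ y y' hyy]
  set ζ := ⁅lX y (neg y'), lZ y'⁆ * T D y y' with hζ
  have hπζ : π ζ = Z y := by
    rw [hζ, map_mul, hbc, map_T D hyy, mul_assoc, hS.sqX _ _ hyy, mul_one]
  have hm : π ⁅lX x (neg y), lX y (neg y')⁆ = X x (neg y') := by
    have := hS.br x (neg y) (neg y') hxy hyy hxy'
    rw [neg2] at this
    rw [map_commutatorElement, D.hlX, D.hlX, this]
  have h1 := hwZ (a := lX x (neg y)) (b := lX y (neg y')) (c := lZ y') (ζ := ζ) (t := T D y y')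
    (s := T D x y) (s' := T D x y') (m := ⁅lX x (neg y), lX y (neg y')⁆)
    ((lcZX hS D.hk D.hX D.h4 (x := x) (y := neg y) (z := y') hxy (ne_neg_of hxy') (ne_neg_of hyy)).symm _ _
      (D.hlX _ _) (D.hlZ _)) rfl
    (by rw [hζ, mul_assoc, T_sq D hyy, mul_one])
    (br_lift D (x := x) (y := neg y) (z := y') hxy hyy hxy' (D.hlX _ _) (by
      rw [map_T D hyy, neg2]))
    (br_lift D (x := x) (y := neg y') (z := y) hxy' hyy.symm hxy hm (by
      rw [map_T D hyy, neg2, hS.swap _ _ hyy]))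
    (lcZX hS D.hk D.hX D.h4 (x := x) (y := neg y') (z := y) hxy' (ne_neg_of hxy) (ne_neg_of hyy.symm) _ _ hπζ hm)
    (lcZX hS D.hk D.hX D.h4 (x := y) (y := y') (z := y) hyy (ne_neg_self y) (ne_neg_of hyy.symm) _ _ hπζ
      (map_T D hyy))
    (lcZX hS D.hk D.hX D.h4 (x := x) (y := y') (z := y) hxy' (ne_neg_of hxy) (ne_neg_of hyy.symm) _ _ hπζ
      (map_T D hxy'))
    (lcZZ hS D.hk D.hX D.hZ D.h4 hyy _ _ hπζ (D.hlZ _))
    ((lcZX hS D.hk D.hX D.h4 (x := y) (y := y') (z := y') hyy (ne_neg_of hyy) (ne_neg_self _)).symm _ _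
      (map_T D hyy) (D.hlZ _))
    ((lcZX hS D.hk D.hX D.h4 (x := x) (y := y) (z := y') hxy (ne_neg_of hxy') (ne_neg_of hyy)).symm _ _
      (map_T D hxy) (D.hlZ _))
    (lcXX_T D hxy hxy' (ne_neg_self x) (ne_neg_of hxy) (ne_neg_of hxy'.symm) (ne_neg_of hyy.symm))
    (T_sq D hxy) (T_sq D hxy')
  rw [Q, Q, comm_congr D.hk (a := lX x (neg y)) (b := lZ y) rfl (by rw [D.hlZ, hπζ] : π (lZ y) = π ζ), h1]
  congr 1
  exact comm_congr D.hk (by rw [hm, D.hlX]) rfl

/-- The lift of `Z x`. -/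
noncomputable def U (D : Dat X Z π c lX lZ) (x : ι × Bool) : L := Q D x ((D.h4 x.1 x.1 x.1).choose, true)

theorem U_eq {x y : ι × Bool} (hxy : x.1 ≠ y.1) : U D x = Q D x y := by
  obtain ⟨h1, -, -⟩ := (D.h4 x.1 x.1 x.1).choose_spec
  set w := (D.h4 x.1 x.1 x.1).choose with hw
  show Q D x (w, true) = _
  by_cases h : w = y.1
  · obtain ⟨u, hux, huy, -⟩ := D.h4 x.1 y.1 y.1
    rw [Q_indep D (y := (w, true)) (y' := (u, true)) h1.symm hux.symm (by rw [h]; exact huy.symm),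
      Q_indep D (y := (u, true)) (y' := y) hux.symm hxy huy]
  · exact Q_indep D h1.symm hxy h

theorem map_U (x : ι × Bool) : π (U D x) = Z x := map_Q D (D.h4 x.1 x.1 x.1).choose_spec.1.symm

/-- commutators of arbitrary lifts -/
theorem brZ_lift {x y : ι × Bool} (hxy : x.1 ≠ y.1) {a b : L} (ha : π a = X x (neg y)) (hb : π b = Z y) :
    ⁅a, b⁆ = U D x * T D x y := by
  rw [U_eq D hxy, Q, mul_assoc, T_sq D hxy, mul_one]
  exact comm_congr D.hk (by rw [ha, D.hlX]) (by rw [hb, D.hlZ])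

/-- **The lifted system.** -/
theorem csys [Nontrivial ι] : CSys (T D) (U D) := by
  have hS := D.S
  have sqU : ∀ x, U D x * U D x = 1 := fun x => sqZ_lift hS D.hk D.hX D.hZ D.h4 x _ (map_U D x)
  have comZX : ∀ x y z : ι × Bool, y.1 ≠ z.1 → y ≠ neg x → z ≠ neg x → U D x * T D y z = T D y z * U D x :=
    fun x y z hyz h1 h2 => lcZX hS D.hk D.hX D.h4 hyz h1 h2 _ _ (map_U D x) (map_T D hyz)
  refine ⟨fun x y h => T_sq D h, sqU, fun x y h => T_swap D h,
    fun x y z u h1 h2 h3 h4 h5 h6 => lcXX_T D h1 h2 h3 h4 h5 h6, ?_, comZX,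
    fun x y h => lcZZ hS D.hk D.hX D.hZ D.h4 h _ _ (map_U D x) (map_U D y), ?_, ?_⟩
  · intro x y hxy
    have hxy' : x.1 ≠ (neg y).1 := hxy
    -- `⁅T x (-y), U y⁆ = U x * T x y`
    have e1 : ⁅T D x (neg y), U D y⁆ = U D x * T D x y := brZ_lift D hxy (map_T D hxy') (map_U D y)
    set t := T D x (neg y) with ht
    set s := T D x y with hs
    set u := U D y
    set v := U D x
    have ht2 : t * t = 1 := T_sq D hxy'
    have hs2 : s * s = 1 := T_sq D hxy
    have hv2 : v * v = 1 := sqU x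
    have hvt : v * t = t * v := comZX x x (neg y) hxy' (ne_neg_self x) (ne_neg_of hxy.symm)
    have hvs : v * s = s * v := comZX x x y hxy (ne_neg_self x) (ne_neg_of hxy.symm)
    have hti : t⁻¹ = t := inv_eq_of_mul_eq_one_left ht2
    have e2 : u * t * u⁻¹ = t * (v * s) := by
      rw [← e1, commutatorElement_def, hti]
      calc u * t * u⁻¹ = (t * t) * (u * t * u⁻¹) := by rw [ht2, one_mul]
        _ = t * (t * u * t * u⁻¹) := by simp only [mul_assoc]
    have e3 : (t * (v * s)) * (t * (v * s)) = 1 := by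
      rw [← e2]
      calc u * t * u⁻¹ * (u * t * u⁻¹) = u * (t * t) * u⁻¹ := by group
        _ = 1 := by rw [ht2]; group
    have e4 : (t * (v * s)) * (t * (v * s)) = t * s * (t * s) := by
      calc (t * (v * s)) * (t * (v * s)) = t * v * (s * t) * (v * s) := by simp only [mul_assoc]
        _ = t * (v * (s * t)) * (v * s) := by simp only [mul_assoc]
        _ = t * ((s * t) * v) * (v * s) := by
            rw [show v * (s * t) = (s * t) * v from ((show Commute v s from hvs).mul_right hvt).eq]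
        _ = t * (s * t) * (v * v) * s := by simp only [mul_assoc]
        _ = t * s * (t * s) := by rw [hv2, mul_one]; simp only [mul_assoc]
    rw [e4] at e3
    have e5 : t * s = (t * s)⁻¹ := (inv_eq_of_mul_eq_one_left e3).symm
    rw [mul_inv_rev, hti, inv_eq_of_mul_eq_one_left hs2] at e5
    exact e5.symm
  · exact fun x y z h1 h2 h3 => br_lift D h1 h2 h3 (map_T D h1) (map_T D h2)
  · exact fun x y h => brZ_lift D h (map_T D (show x.1 ≠ (neg y).1 from h)) (map_U D y)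

end lift

/-- **Root elements of `Sp_{2n}(2)`, `n ≥ 4`, lift to every double cover with their relations.** -/
theorem exists_lift [Nontrivial ι] {X : ι × Bool → ι × Bool → G} {Z : ι × Bool → G} (S : CSys X Z) {π : L →* G} {c : L}
    (hk : Ker2 π c) (hX : ∀ x y, X x y ∈ π.range) (hZ : ∀ x, Z x ∈ π.range) (h4 : Four ι) :
    ∃ (T : ι × Bool → ι × Bool → L) (U : ι × Bool → L), CSys T U ∧ (∀ x y, x.1 ≠ y.1 → π (T x y) = X x y) ∧
      ∀ x, π (U x) = Z x := by
  choose lX hlX using hX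
  choose lZ hlZ using hZ
  have D : Dat X Z π c lX lZ := ⟨S, hk, hlX, hlZ, h4⟩
  exact ⟨T D, U D, csys D, fun x y h => map_T D h, map_U D⟩

end Cfsg.Agent.KFacts.Mult.RelC

end

-- merged: Cfsg.Agent.KFacts.Mult.RelCRoot
section

/-!
# The root groups of a system `CSys T U` indexed by the roots of type `C_n`

`rgc T U x` : the root group `{1, T a b}` or `{1, U a}` of the root `x`; `comm_rgc` : all commutator relations.
-/

set_option autoImplicit false
set_option linter.unusedSectionVars false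

namespace Cfsg.Agent.KFacts.Mult.RelCRoot

open Cfsg.Agent.ChevalleyStructure.CoxeterGeom Cfsg.Agent.Tits.Roots Cfsg.Agent.Nodes.TypeC
open Cfsg.Agent.Nodes.Comb Cfsg.Agent.Nodes.Reps
open Cfsg.Agent.KFacts.Mult.RelC
open scoped commutatorElement

variable {L : Type*} [Group L] {n : ℕ} (T : Fin n × Bool → Fin n × Bool → L) (U : Fin n × Bool → L)

/-- The root group of a pair of signed indices. -/
def PGc (a b : Fin n × Bool) : Subgroup L := if a = b then Subgroup.zpowers (U a) else Subgroup.zpowers (T a b)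

theorem PGc_self (a : Fin n × Bool) : PGc T U a a = Subgroup.zpowers (U a) := if_pos rfl

theorem PGc_ne {a b : Fin n × Bool} (h : a.1 ≠ b.1) : PGc T U a b = Subgroup.zpowers (T a b) :=
  if_neg fun h' => h (congrArg Prod.fst h')

/-- The root group of a root. -/
def rgc (x : Fin n → ℤ) : Subgroup L :=
  ⨆ q : {q : (Fin n × Bool) × (Fin n × Bool) // Ok q.1 q.2 ∧ ee x = wt q.1 + wt q.2}, PGc T U q.1.1 q.1.2

variable {T U} (S : CSys T U)

include S

theorem PGc_swap {a b : Fin n × Bool} (h : Ok a b) : PGc T U a b = PGc T U b a := by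
  rcases h with h | rfl
  · rw [PGc_ne T U h, PGc_ne T U h.symm, S.swap a b h]
  · rfl

theorem rgc_eq {x : Fin n → ℤ} {a b : Fin n × Bool} (hab : Ok a b) (e : ee x = wt a + wt b) :
    rgc T U x = PGc T U a b := by
  apply le_antisymm
  · refine iSup_le ?_
    rintro ⟨⟨c, d⟩, hcd, e'⟩
    rcases wt_add_eq hab hcd (e.symm.trans e') with ⟨rfl, rfl⟩ | ⟨rfl, rfl⟩
    · exact le_rfl
    · exact (PGc_swap S hcd).le
  · exact le_iSup (fun q : {q : (Fin n × Bool) × (Fin n × Bool) // Ok q.1 q.2 ∧ ee x = wt q.1 + wt q.2} =>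
      PGc T U q.1.1 q.1.2) ⟨(a, b), hab, e⟩

omit S in
theorem mem_zpowers_sq {e g : L} (he : e * e = 1) (hg : g ∈ Subgroup.zpowers e) : g = 1 ∨ g = e := by
  obtain ⟨k, rfl⟩ := Subgroup.mem_zpowers_iff.1 hg
  rcases Int.even_or_odd' k with ⟨j, rfl | rfl⟩
  · left; rw [zpow_mul, zpow_ofNat, pow_two, he, one_zpow]
  · right; rw [zpow_add, zpow_mul, zpow_ofNat, pow_two, he, one_zpow, one_mul, zpow_one]

theorem mem_T {a b : Fin n × Bool} (h : a.1 ≠ b.1) {g : L} (hg : g ∈ PGc T U a b) : g = 1 ∨ g = T a b := by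
  rw [PGc_ne T U h] at hg
  exact mem_zpowers_sq (S.sqX a b h) hg

theorem mem_U {a : Fin n × Bool} {g : L} (hg : g ∈ PGc T U a a) : g = 1 ∨ g = U a := by
  rw [PGc_self] at hg
  exact mem_zpowers_sq (S.sqZ a) hg

section Comm

variable {W : Type*} [Group W] (cs : CoxeterSystem (CoxeterMatrix.B n) W)

theorem PGc_le_btw {x y : Fin n → ℤ} {u v : Fin n × Bool} (huv : Ok u v) {m c d : ℤ} (hm : 0 < m) (hc : 0 < c)
    (hd : 0 < d) (e : m • (wt u + wt v) = c • ee x + d • ee y) :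
    PGc T U u v ≤ btw cs (isCartan n) (rgc T U) x y := by
  obtain ⟨z, hz, ez⟩ := rt_of_ok (cs := cs) huv
  rw [← rgc_eq S huv ez]
  refine le_btw_of ⟨hz, m, c, d, hm, hc, hd, ee_injective ?_⟩
  rw [ee_smul, ee_add, ee_smul, ee_smul, ez, e]

theorem comm_TU {x y : Fin n → ℤ} {a b : Fin n × Bool} (hab : a.1 ≠ b.1) (ex : ee x = wt a + wt (ng b))
    (ey : ee y = wt b + wt b) : ⁅T a (ng b), U b⁆ ∈ btw cs (isCartan n) (rgc T U) x y := by
  have e1 : ⁅T a (ng b), U b⁆ = U a * T a b := S.brZ a b hab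
  rw [e1]
  refine mul_mem ?_ ?_
  · refine PGc_le_btw S cs (u := a) (v := a) (Or.inr rfl) (m := 1) (c := 2) (d := 1) one_pos (by norm_num) one_pos ?_ ?_
    · rw [ex, ey, one_smul, one_smul, two_smul, wt_ng]; abel
    · rw [PGc_self]; exact Subgroup.mem_zpowers _
  · refine PGc_le_btw S cs (u := a) (v := b) (Or.inl hab) (m := 1) (c := 1) (d := 1) one_pos one_pos one_pos ?_ ?_
    · rw [ex, ey, one_smul, one_smul, one_smul, wt_ng]; abel
    · rw [PGc_ne T U hab]; exact Subgroup.mem_zpowers _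

theorem comm_TT_ne {x y : Fin n → ℤ} {a b d : Fin n × Bool} (hab : a.1 ≠ b.1) (hbd : b.1 ≠ d.1) (had : a.1 ≠ d.1)
    (ex : ee x = wt a + wt b) (ey : ee y = wt (ng b) + wt d) :
    ⁅T a b, T (ng b) d⁆ ∈ btw cs (isCartan n) (rgc T U) x y := by
  have e1 : ⁅T a b, T (ng b) d⁆ = T a d := S.br a b d hab hbd had
  rw [e1]
  refine PGc_le_btw S cs (u := a) (v := d) (Or.inl had) (m := 1) (c := 1) (d := 1) one_pos one_pos one_pos ?_ ?_
  · rw [ex, ey, one_smul, one_smul, one_smul, wt_ng]; abel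
  · rw [PGc_ne T U had]; exact Subgroup.mem_zpowers _

/-- commutators of two root elements of type I -/
theorem comm_TT {x y : Fin n → ℤ} {a b c d : Fin n × Bool} (hab : a.1 ≠ b.1) (hcd : c.1 ≠ d.1) (hc : c = ng b)
    (ex : ee x = wt a + wt b) (ey : ee y = wt c + wt d) (hxy : x ≠ -y) :
    ⁅T a b, T c d⁆ ∈ btw cs (isCartan n) (rgc T U) x y := by
  subst hc
  by_cases had : a.1 = d.1
  · by_cases had' : d = a
    · subst had'
      have e1 : T d b * T d (ng b) = T d (ng b) * T d b := S.comXX' _ _ hab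
      rw [S.swap _ _ hcd, commutatorElement_eq_one_iff_mul_comm.2 e1]
      exact one_mem _
    · exfalso
      have h1 : d = ng a := by
        obtain ⟨a, s⟩ := a
        obtain ⟨d, t⟩ := d
        simp only at had
        subst had
        cases s <;> cases t <;> simp_all [ng]
      apply hxy
      apply ee_injective
      rw [ee_neg, ex, ey, h1, wt_ng, wt_ng]; abel
  · exact comm_TT_ne S cs hab hcd had ex ey

theorem comm_rgc {x y : Fin n → ℤ} (hx : IsRoot cs (isCartan n) x) (hy : IsRoot cs (isCartan n) y) (hxy : x ≠ y)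
    (hxy' : x ≠ -y) {g k : L} (hg : g ∈ rgc T U x) (hk : k ∈ rgc T U y) :
    ⁅g, k⁆ ∈ btw cs (isCartan n) (rgc T U) x y := by
  obtain ⟨a, b, hab, ex⟩ := exists_of_isRoot cs hx
  obtain ⟨c, d, hcd, ey⟩ := exists_of_isRoot cs hy
  rw [rgc_eq S hab ex] at hg
  rw [rgc_eq S hcd ey] at hk
  have hsymm : ∀ {g k : L}, ⁅k, g⁆ ∈ btw cs (isCartan n) (rgc T U) y x →
      ⁅g, k⁆ ∈ btw cs (isCartan n) (rgc T U) x y := by
    intro g k h1
    have h2 : ⁅g, k⁆ = ⁅k, g⁆⁻¹ := (commutatorElement_inv k g).symm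
    rw [h2]
    refine inv_mem ?_
    refine (iSup_le fun z => ?_ : btw cs (isCartan n) (rgc T U) y x ≤ _) h1
    exact le_btw_of z.2.symm
  rcases hab with hab | rfl
  · rcases mem_T S hab hg with rfl | rfl
    · rw [commutatorElement_one_left]; exact one_mem _
    rcases hcd with hcd | rfl
    · rcases mem_T S hcd hk with rfl | rfl
      · rw [commutatorElement_one_right]; exact one_mem _
      by_cases h1 : c = ng b
      · exact comm_TT S cs hab hcd h1 ex ey hxy'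
      by_cases h2 : c = ng a
      · rw [S.swap _ _ hab]
        exact comm_TT S cs hab.symm hcd h2 (by rw [ex, add_comm]) ey hxy'
      by_cases h3 : d = ng b
      · rw [S.swap _ _ hcd]
        exact comm_TT S cs hab hcd.symm h3 ex (by rw [ey, add_comm]) hxy'
      by_cases h4 : d = ng a
      · rw [S.swap _ _ hab, S.swap _ _ hcd]
        exact comm_TT S cs hab.symm hcd.symm h4 (by rw [ex, add_comm]) (by rw [ey, add_comm]) hxy'
      rw [commutatorElement_eq_one_iff_mul_comm.2 (S.comXX a b c d hab hcd h2 h1 h4 h3)]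
      exact one_mem _
    · rcases mem_U S hk with rfl | rfl
      · rw [commutatorElement_one_right]; exact one_mem _
      by_cases h1 : b = ng c
      · subst h1
        exact comm_TU S (a := a) (b := c) cs hab ex ey
      by_cases h2 : a = ng c
      · subst h2
        rw [S.swap _ _ hab]
        exact comm_TU S (a := b) (b := c) cs hab.symm (by rw [ex, add_comm]) ey
      rw [commutatorElement_eq_one_iff_mul_comm.2 (S.comZX c a b hab h2 h1).symm]
      exact one_mem _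
  · rcases mem_U S hg with rfl | rfl
    · rw [commutatorElement_one_left]; exact one_mem _
    rcases hcd with hcd | rfl
    · rcases mem_T S hcd hk with rfl | rfl
      · rw [commutatorElement_one_right]; exact one_mem _
      apply hsymm
      by_cases h1 : d = ng a
      · subst h1
        exact comm_TU S (a := c) (b := a) cs hcd ey ex
      by_cases h2 : c = ng a
      · subst h2
        rw [S.swap _ _ hcd]
        exact comm_TU S (a := d) (b := a) cs hcd.symm (by rw [ey, add_comm]) ex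
      rw [commutatorElement_eq_one_iff_mul_comm.2 (S.comZX a c d hcd h2 h1).symm]
      exact one_mem _
    · rcases mem_U S hk with rfl | rfl
      · rw [commutatorElement_one_right]; exact one_mem _
      have hne : a.1 ≠ c.1 := by
        intro h1
        by_cases h2 : a = c
        · subst h2
          exact hxy (ee_injective (ex.trans ey.symm))
        · have h3 : a = ng c := by
            obtain ⟨a, s⟩ := a
            obtain ⟨c, t⟩ := c
            simp only at h1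
            subst h1
            cases s <;> cases t <;> simp_all [ng]
          apply hxy'
          apply ee_injective
          rw [ee_neg, ex, ey, h3, wt_ng]; abel
      rw [commutatorElement_eq_one_iff_mul_comm.2 (S.comZZ a c hne)]
      exact one_mem _

end Comm

end Cfsg.Agent.KFacts.Mult.RelCRoot

end

-- merged: Cfsg.Agent.KFacts.Mult.SpTwo
section

/-!
# `PSp_{2n}(2)`, `n ≥ 4`, has no perfect double cover

`amb` : the ambient structure of the symplectic frame (root group datum: `rgdSp`, every characteristic);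
`csysSp` : the relations `CSys` of the root elements, `|F| = 2`;
`noDouble_psp_two` : `NoDouble (PSp n F)`, `|F| = 2`, `n ≥ 4`.
-/

set_option autoImplicit false
set_option linter.unusedSectionVars false

namespace Cfsg.Agent.KFacts.Mult.SpTwo

open Cfsg Cfsg.Agent.ClassicalGeometry.SympBasic
open Cfsg.Agent.ChevalleyStructure.CoxeterGeom Cfsg.Agent.Tits.Roots Cfsg.Agent.Nodes.TypeC
open Cfsg.Agent.Nodes.Comb Cfsg.Agent.Nodes.Reps Cfsg.Agent.Nodes.WittRoot Cfsg.Agent.Nodes.BNOf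
open Cfsg.Agent.Nodes.BNOf.RGD Cfsg.Agent.Nodes.Bruhat
open Cfsg.Agent.TitsThree Cfsg.Agent.TitsThree.Siegel Cfsg.Agent.TitsThree.WittFrame
  Cfsg.Agent.TitsThree.FrameCN Cfsg.Agent.TitsThree.SpIdent Cfsg.Agent.TitsThree.SpGen Cfsg.Agent.TitsThree.KInstSp
open Cfsg.Agent.KFacts.MulTwo Cfsg.Agent.KFacts.MulDef Cfsg.Agent.KFacts.Mult.RelBase
  Cfsg.Agent.KFacts.Mult.RelC Cfsg.Agent.KFacts.Mult.RelCRoot Cfsg.Agent.KFacts.Mult.Asm
open scoped commutatorElement

variable {n : ℕ} {F : Type*} [Field F]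

theorem amb (n : ℕ) (F : Type*) [Field F] : Amb (frame n F) (model n F).I where
  iso g hg := hg
  ok g _ w c hw _ := by
    have h0 : w = 0 := hw
    rw [h0, map_zero]; exact rfl
  X_mem a b t := (model n F).hX a b t
  Z_mem a p := (model n F).hZ a p
  V0 v hv := by
    show v ∈ (⊥ : Submodule F _)
    rw [Submodule.mem_bot]
    funext j
    rcases j with i | i
    · have h1 : sympForm n F v (Pi.single (Sum.inr i) 1) = 0 := hv (i, true)
      rw [sympForm_single_inr_right] at h1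
      exact neg_eq_zero.1 h1
    · have h1 : sympForm n F v (Pi.single (Sum.inl i) 1) = 0 := hv (i, false)
      rwa [sympForm_single_inl_right] at h1
  aniso v hv _ := (Submodule.mem_bot F).1 hv
  ok_aniso w hw := hw

/-- The root group datum of `PSp`. -/
theorem rgdSp [Finite F] {p : ℕ} [Fact p.Prime] [CharP F p] {W : Type*} [Group W]
    (cs : CoxeterSystem (CoxeterMatrix.B n) W) :
    RGD cs (isCartan n) p (Cfsg.Agent.Nodes.WittModel.T (model n F))
      (Cfsg.Agent.Nodes.WittModel.nw (model n F) (amb n F) (adm 1)) (Cfsg.Agent.Nodes.WittModel.X (model n F)) :=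
  NotP.rgdM (model n F) (amb n F) (p0 := adm 1) (show (1 : F) ≠ 0 from one_ne_zero) cs

/-! ### The relations -/

section maps

variable {ι : Type*} [DecidableEq ι] {G G' : Type*} [Group G] [Group G']

theorem CSys.map {X : ι × Bool → ι × Bool → G} {Z : ι × Bool → G} (S : CSys X Z) (f : G →* G') :
    CSys (fun x y => f (X x y)) (fun x => f (Z x)) where
  sqX x y h := by rw [← map_mul, S.sqX x y h, map_one]
  sqZ x := by rw [← map_mul, S.sqZ x, map_one]
  swap x y h := by rw [S.swap x y h]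
  comXX x y z u h1 h2 h3 h4 h5 h6 := by rw [← map_mul, S.comXX x y z u h1 h2 h3 h4 h5 h6, map_mul]
  comXX' x y h := by rw [← map_mul, S.comXX' x y h, map_mul]
  comZX x y z h1 h2 h3 := by rw [← map_mul, S.comZX x y z h1 h2 h3, map_mul]
  comZZ x y h := by rw [← map_mul, S.comZZ x y h, map_mul]
  br x y z h1 h2 h3 := by rw [← map_commutatorElement, S.br x y z h1 h2 h3]
  brZ x y h := by rw [← map_commutatorElement, S.brZ x y h, map_mul]

theorem CSys.of_map {X : ι × Bool → ι × Bool → G} {Z : ι × Bool → G} (f : G →* G') (hf : Function.Injective f)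
    (S : CSys (fun x y => f (X x y)) (fun x => f (Z x))) : CSys X Z where
  sqX x y h := hf (by rw [map_mul, S.sqX x y h, map_one])
  sqZ x := hf (by rw [map_mul, S.sqZ x, map_one])
  swap x y h := hf (S.swap x y h)
  comXX x y z u h1 h2 h3 h4 h5 h6 := hf (by rw [map_mul, map_mul]; exact S.comXX x y z u h1 h2 h3 h4 h5 h6)
  comXX' x y h := hf (by rw [map_mul, map_mul]; exact S.comXX' x y h)
  comZX x y z h1 h2 h3 := hf (by rw [map_mul, map_mul]; exact S.comZX x y z h1 h2 h3)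
  comZZ x y h := hf (by rw [map_mul, map_mul]; exact S.comZZ x y h)
  br x y z h1 h2 h3 := hf (by rw [map_commutatorElement]; exact S.br x y z h1 h2 h3)
  brZ x y h := hf (by rw [map_commutatorElement, map_mul]; exact S.brZ x y h)

end maps

section two

variable (h2 : ∀ t : F, t + t = 0)

include h2

theorem neg_self (t : F) : -t = t := neg_eq_of_add_eq_zero_left (h2 t)

theorem eta (x : Fin n × Bool) : (frame n F).η x = 1 := by
  unfold Frame.η
  split_ifs
  · rw [form_ε]; exact neg_self h2 1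
  · rfl

theorem csysV : CSys (fun x y => (frame n F).X x y 1) (fun x => (frame n F).Z x (adm 1)) where
  sqX x y _ := by rw [← Frame.X_add, h2, Frame.X_zero]
  sqZ x := by
    rw [← Frame.Z_mul, ← adm_add, h2]
    exact (frame n F).Z_one x
  swap x y h := by
    rw [(frame n F).X_swap h, eta h2, eta h2, form_ε, form_σ]
    congr 1
    rw [neg_self h2, neg_self h2 (1 : F), inv_one]; ring
  comXX x y z u _ _ h3 h4 h5 h6 := ((frame n F).commute_XX h3 h4 h5 h6 1 1).eq
  comXX' x y h := by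
    have e := (frame n F).X_mul_X_same h (1 : F) 1
    have e2 : (Frame.Adm.tr ((form n F).σ (1 : F) * 1 * ((frame n F).η (neg y))⁻¹) : (frame n F).Adm) = 1 := by
      ext
      · rfl
      · rw [Frame.Adm.tr_c, form_ε, form_σ, form_σ, neg_self h2 (1 : F)]
        show _ = (0 : F)
        rw [inv_one]; ring
    rw [e2, Frame.Z_one, one_mul] at e
    exact e
  comZX x y z _ h1 h2' := ((frame n F).commute_ZX h1 h2' (adm 1) 1).eq
  comZZ x y h := by
    have e := (frame n F).Z_mul_Z h (adm 1) (adm 1)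
    have e2 : (form n F).h (adm (1 : F) : (frame n F).Adm).w (adm (1 : F) : (frame n F).Adm).w = 0 :=
      sympForm_zero_left _
    rw [e2, map_zero, mul_zero, neg_zero, Frame.X_zero, one_mul] at e
    exact e
  br x y z h1 h2' h3 := by
    rw [commutatorElement_def, (frame n F).conj_X_X h1 h2' h3, mul_one, mul_inv_cancel_right]
  brZ x y h := by
    rw [commutatorElement_def, (frame n F).conj_X_Z h, eta h2, form_ε, form_σ, mul_inv_cancel_right]
    congr 1
    · congr 1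
      exact Frame.Adm.one_smul _
    · congr 1
      show -((-1 : F)⁻¹ * 1 * 1 * 1) = 1
      rw [neg_self h2 (1 : F), inv_one, mul_one, mul_one, mul_one, neg_self h2]

/-- **The relations of the root elements of `PSp`.** -/
theorem csysK : CSys (fun x y => (model n F).X x y 1) (fun x => (model n F).Z x (adm 1)) :=
  CSys.map (X := fun x y => (⟨(frame n F).X x y 1, (model n F).hX x y 1⟩ : (model n F).I))
    (Z := fun x => (⟨(frame n F).Z x (adm 1), (model n F).hZ x (adm 1)⟩ : (model n F).I))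
    (CSys.of_map (model n F).I.subtype (model n F).I.subtype_injective (csysV h2)) (model n F).φ

end two

/-! ### The theorem -/

/-- The root groups of `K`, `|F| = 2`. -/
theorem X_eq (h2 : ∀ t : F, t + t = 0) (hF : ∀ t : F, t = 0 ∨ t = 1) {W : Type*} [Group W]
    (cs : CoxeterSystem (CoxeterMatrix.B n) W) {x : Fin n → ℤ} (hx : IsRoot cs (isCartan n) x) :
    Cfsg.Agent.Nodes.WittModel.X (model n F) x =
      rgc (fun x y => (model n F).X x y 1) (fun x => (model n F).Z x (adm 1)) x := by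
  obtain ⟨a, b, hab, e⟩ := exists_of_isRoot cs hx
  rw [rgc_eq (csysK h2) hab e, Cfsg.Agent.Nodes.WittModel.X, rg_eq (frame n F) hab e]
  ext g
  rcases hab with hab | rfl
  · rw [PGc_ne _ _ hab, PG_ne (frame n F) hab]
    constructor
    · rintro ⟨⟨k, hk⟩, hk', rfl⟩
      obtain ⟨t, ht⟩ := Subgroup.mem_subgroupOf.1 hk'
      have ht' : k = (frame n F).X a b t := ht
      subst ht'
      rcases hF t with rfl | rfl
      · have : (⟨(frame n F).X a b 0, hk⟩ : (model n F).I) = 1 := Subtype.ext ((frame n F).X_zero a b)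
        rw [this, map_one]; exact one_mem _
      · exact Subgroup.mem_zpowers _
    · intro hg
      rcases mem_zpowers_sq ((csysK (n := n) h2).sqX a b hab) hg with rfl | rfl
      · exact one_mem _
      · exact ⟨⟨(frame n F).X a b 1, (model n F).hX a b 1⟩, ⟨1, rfl⟩, rfl⟩
  · rw [PGc_self, PG_self]
    constructor
    · rintro ⟨⟨k, hk⟩, hk', rfl⟩
      obtain ⟨q, hq⟩ := Subgroup.mem_subgroupOf.1 hk'
      have hq' : k = (frame n F).Z a q := hq
      subst hq'
      have h0 : q = adm 0 ∨ q = adm 1 := by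
        rcases hF q.c with h0 | h0
        · left; rw [eq_adm q, h0]
        · right; rw [eq_adm q, h0]
      rcases h0 with rfl | rfl
      · have : (⟨(frame n F).Z a (adm 0), hk⟩ : (model n F).I) = 1 := Subtype.ext ((frame n F).Z_one a)
        rw [this, map_one]; exact one_mem _
      · exact Subgroup.mem_zpowers _
    · intro hg
      rcases mem_zpowers_sq ((csysK (n := n) h2).sqZ a) hg with rfl | rfl
      · exact one_mem _
      · exact ⟨⟨(frame n F).Z a (adm 1), (model n F).hZ a (adm 1)⟩, ⟨adm 1, rfl⟩, rfl⟩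

theorem four (hn : 4 ≤ n) : Four (Fin n) := by
  intro a b d
  by_contra hcon
  push Not at hcon
  have h1 : (Finset.univ : Finset (Fin n)) ⊆ {a, b, d} := by
    intro u _
    simp only [Finset.mem_insert, Finset.mem_singleton]
    by_cases h1 : u = a
    · exact Or.inl h1
    by_cases h3 : u = b
    · exact Or.inr (Or.inl h3)
    · exact Or.inr (Or.inr (hcon u h1 h3))
  have h2 := Finset.card_le_card h1
  rw [Finset.card_univ, Fintype.card_fin] at h2
  have h3 : ({a, b, d} : Finset (Fin n)).card ≤ 3 := Finset.card_le_three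
  omega

/-- **`PSp_{2n}(2)`, `n ≥ 4`, has no perfect double cover.** -/
theorem noDouble_psp_two [Fintype F] (hF : Fintype.card F = 2) (hn : 4 ≤ n) : NoDouble (PSp n F) := by
  classical
  intro L _ _ π c hD
  have h01 : ∀ t : F, t = 0 ∨ t = 1 := by
    intro t
    by_contra hcon
    push Not at hcon
    have h1 : ({0, 1, t} : Finset F).card ≤ 2 := by
      rw [← hF]; exact Finset.card_le_univ _
    rw [Finset.card_insert_of_notMem (by simp [hcon.1.symm]), Finset.card_insert_of_notMem (by simp [hcon.2.symm]),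
      Finset.card_singleton] at h1
    omega
  have h2 : ∀ t : F, t + t = 0 := by
    intro t
    have h1 : (1 : F) + 1 = 0 := by
      rcases h01 (1 + 1) with h | h
      · exact h
      · exact absurd (add_eq_left.1 h) one_ne_zero
    calc t + t = t * (1 + 1) := by ring
      _ = 0 := by rw [h1, mul_zero]
  have hchar : CharP F 2 := CharTwo.of_one_ne_zero_of_two_eq_zero one_ne_zero (by rw [← one_add_one_eq_two, h2])
  have : Fact (Nat.Prime 2) := ⟨Nat.prime_two⟩
  have hk : Ker2 π c :=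
    { ker := fun g hg => (hD.ker g).1 hg
      map_c := (hD.ker c).2 (Or.inr rfl)
      cen := hD.cen
      ne := hD.ne }
  have hnt : Nontrivial (Fin n) := Fin.nontrivial_iff_two_le.2 (by omega)
  obtain ⟨T, U, S, hT, hU⟩ := exists_lift (csysK (n := n) (F := F) h2) hk
    (fun x y => hD.surj _) (fun x => hD.surj _) (four hn)
  let cs : CoxeterSystem (CoxeterMatrix.B n) (CoxeterMatrix.B n).Group := (CoxeterMatrix.B n).toCoxeterSystem
  have : Finite (CoxeterMatrix.B n).Group := finite_W cs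
  have R := rgdSp (n := n) (F := F) (p := 2) cs
  have : Finite (PSp n F) := Finite.of_surjective _ hD.surj
  -- the images of the lifted root groups
  have hmap : ∀ x, IsRoot cs (isCartan n) x →
      (rgc T U x).map π = Cfsg.Agent.Nodes.WittModel.X (model n F) x := by
    intro x hx
    obtain ⟨a, b, hab, e⟩ := exists_of_isRoot cs hx
    rw [X_eq h2 h01 cs hx, rgc_eq S hab e, rgc_eq (csysK h2) hab e]
    rcases hab with hab | rfl
    · rw [PGc_ne _ _ hab, PGc_ne _ _ hab, MonoidHom.map_zpowers, hT a b hab]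
    · rw [PGc_self, PGc_self, MonoidHom.map_zpowers, hU]
  -- root groups are not trivial
  have hne : ∀ x, IsRoot cs (isCartan n) x → ∃ u ∈ Cfsg.Agent.Nodes.WittModel.X (model n F) x, u ≠ 1 := by
    rintro x ⟨w, i, rfl⟩
    obtain ⟨u, hu, hu1⟩ := exists_ne_one R i
    obtain ⟨g, hg⟩ := exists_rp cs R.nsys w
    refine ⟨g * u * g⁻¹, R.conj_mem hg (isRoot_sr cs _ i) hu, fun h => hu1 ?_⟩
    have e : u = g⁻¹ * (g * u * g⁻¹) * g := by group
    rw [e, h]; group
  refine false_of_good R rfl hD.toCtr hk ?_ (Xt := rgc T U) ⟨fun x hx => hmap x hx.1, ?_⟩ ?_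
  · have h1 : Cfsg.Agent.Nodes.RGDLib.G1 cs (isCartan n) (Cfsg.Agent.Nodes.WittModel.X (model n F)) = ⊤ :=
      Cfsg.Agent.Nodes.WittModel.G1_eq_top (model n F) (by omega) cs
    have h3 : GG cs (isCartan n) (Cfsg.Agent.Nodes.WittModel.T (model n F))
        (Cfsg.Agent.Nodes.WittModel.X (model n F)) = ⊤ := by
      rw [eq_top_iff, ← h1]
      exact le_sup_right
    rw [h3]; exact le_top
  · intro x hx hc
    obtain ⟨a, b, hab, e⟩ := exists_of_isRoot cs hx.1
    obtain ⟨u, hu, hu1⟩ := hne x hx.1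
    rw [← hmap x hx.1, rgc_eq S hab e] at hu
    obtain ⟨g, hg, rfl⟩ := hu
    rw [rgc_eq S hab e] at hc
    rcases hab with hab | rfl
    · rcases mem_T S hab hg with rfl | rfl
      · exact hu1 (map_one π)
      · rcases mem_T S hab hc with h | h
        · exact hk.ne h
        · exact hu1 (by rw [← h, hk.map_c])
    · rcases mem_U S hg with rfl | rfl
      · exact hu1 (map_one π)
      · rcases mem_U S hc with h | h
        · exact hk.ne h
        · exact hu1 (by rw [← h, hk.map_c])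
  · intro x hx y hy hxy
    refine Or.inl fun a ha b hb => comm_rgc S cs hx.1 hy.1 hxy ?_ ha hb
    rintro rfl
    exact hy.1.not_pos_neg hy.2 (neg_nonneg.1 hx.2)

end Cfsg.Agent.KFacts.Mult.SpTwo

end
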