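import Mathlib
import Cfsg.Agent.Lib.CoprimeCommutator
import Cfsg.Agent.Lib.CoprimeAbelian
import Cfsg.Agent.KFacts.MulDef
import Cfsg.Agent.Nodes.NormalForm
import Cfsg.Agent.Nodes.RGDLib
set_option linter.all false

-- part: KFacts/Mult/WeightsTwo
section
-- merged: Cfsg.Agent.KFacts.Mult.Weights
section

/-!
helper517 (ODD D10, MULT-LIE2): a splitting criterion for double covers of 2-groups with a torus action
("weights").

`WData p c P T V` : `P` is a normal 2-subgroup of `B = P T`, `T` a `p`-group (`p` odd), `c` a central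
involution in `P`; `P` is generated by `c` and by `T`-invariant subgroups `V i` such that every element
of `P` fixed by `C_T(V i)` lies in `V i`, `C_P(T) = <c>` and every `V i` splits over `<c>`.
`exists_compl` : then `P` splits over `<c>`.
-/

set_option autoImplicit false

namespace Cfsg.Agent.KFacts.Mult.Weights

open Subgroup Cfsg.Agent.Lib
open scoped commutatorElement

universe u v

/-- See the header. -/
structure WData {ι : Type v} {B : Type u} [Group B] (p : ℕ) (c : B) (P T : Subgroup B)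
    (V : ι → Subgroup B) : Prop where
  pg : IsPGroup 2 P
  tp : IsPGroup p T
  odd : Odd p
  nP : P.Normal
  top : P ⊔ T = ⊤
  cP : c ∈ P
  c1 : c ≠ 1
  cc : c * c = 1
  cz : ∀ g : B, g * c = c * g
  VP : ∀ i, V i ≤ P
  VT : ∀ i, ∀ t ∈ T, ∀ v ∈ V i, t * v * t⁻¹ ∈ V i
  gen : P ≤ (⨆ i, V i) ⊔ zpowers c
  fix : ∀ i, ∀ u ∈ P, (∀ t ∈ T, (∀ v ∈ V i, t * v = v * t) → t * u = u * t) → u ∈ V i
  fixT : ∀ u ∈ P, (∀ t ∈ T, t * u = u * t) → u = 1 ∨ u = c
  spl : ∀ i, ∃ M : Subgroup B, c ∉ M ∧ M ≤ V i ∧ (∀ v ∈ V i, v ∈ M ∨ v * c ∈ M) ∧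
    ∀ t ∈ T, ∀ m ∈ M, t * m * t⁻¹ ∈ M

namespace WData

variable {ι : Type v} {B : Type u} [Group B] [Finite B] {p : ℕ} [Fact p.Prime] {c : B}
  {P T : Subgroup B} {V : ι → Subgroup B}

omit [Finite B] [Fact p.Prime] in
theorem c_mem_V (h : WData p c P T V) (i : ι) : c ∈ V i :=
  h.fix i c h.cP fun t _ _ => h.cz t

omit [Finite B] [Fact p.Prime] in
theorem cinv (h : WData p c P T V) : c⁻¹ = c := inv_eq_of_mul_eq_one_left h.cc

omit [Finite B] [Fact p.Prime] in
theorem mem_zpowers_c (h : WData p c P T V) {x : B} : x ∈ zpowers c ↔ x = 1 ∨ x = c := by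
  constructor
  · intro hx
    obtain ⟨n, rfl⟩ := mem_zpowers_iff.mp hx
    rcases Int.even_or_odd' n with ⟨k, rfl | rfl⟩
    · left
      rw [zpow_mul, zpow_two, h.cc, one_zpow]
    · right
      rw [zpow_add, zpow_mul, zpow_two, h.cc, one_zpow, one_mul, zpow_one]
  · rintro (rfl | rfl)
    · exact one_mem _
    · exact mem_zpowers _

omit [Finite B] [Fact p.Prime] in
/-- a subgroup normalised by `P` and `T` is normal -/
theorem normal_of (h : WData p c P T V) {K : Subgroup B} (h1 : ∀ x ∈ P, ∀ k ∈ K, x * k * x⁻¹ ∈ K)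
    (h2 : ∀ t ∈ T, ∀ k ∈ K, t * k * t⁻¹ ∈ K) : K.Normal := by
  have key : ∀ S : Subgroup B, (∀ x ∈ S, ∀ k ∈ K, x * k * x⁻¹ ∈ K) → S ≤ normalizer (K : Set B) := by
    intro S hS x hx
    rw [mem_normalizer_iff]
    intro k
    constructor
    · exact fun hk => hS x hx k hk
    · intro hk
      have := hS x⁻¹ (inv_mem hx) _ hk
      simpa [mul_assoc] using this
  have h3 : P ⊔ T ≤ normalizer (K : Set B) := sup_le (key P h1) (key T h2)
  rw [h.top, top_le_iff] at h3
  exact normalizer_eq_top_iff.mp h3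

/-- passing to a quotient -/
theorem quotient (h : WData p c P T V) {K : Subgroup B} [hK : K.Normal] (hKP : K ≤ P) (hcK : c ∉ K) :
    WData p (QuotientGroup.mk' K c) (P.map (QuotientGroup.mk' K)) (T.map (QuotientGroup.mk' K))
      (fun i => (V i).map (QuotientGroup.mk' K)) := by
  have hp : ¬ p ∣ Nat.card K := by
    have hk2 : IsPGroup 2 K := h.pg.to_le hKP
    obtain ⟨n, hn⟩ := IsPGroup.iff_card.mp hk2
    rw [hn]
    intro hd
    have h2 := (Nat.prime_dvd_prime_iff_eq (Fact.out : p.Prime) Nat.prime_two).mp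
      ((Fact.out : p.Prime).dvd_of_dvd_pow hd)
    have := h.odd
    rw [h2] at this
    exact absurd this (by decide)
  have hmk : ∀ x : B, QuotientGroup.mk' K x = 1 ↔ x ∈ K := fun x => by
    rw [← MonoidHom.mem_ker, QuotientGroup.ker_mk']
  have hcomm : ∀ x y : B, QuotientGroup.mk' K x * QuotientGroup.mk' K y =
      QuotientGroup.mk' K y * QuotientGroup.mk' K x ↔ y⁻¹ * (x * y * x⁻¹) ∈ K := by
    intro x y
    rw [← hmk, map_mul, map_mul, map_mul, map_inv, map_inv, inv_mul_eq_one, eq_mul_inv_iff_mul_eq]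
    exact eq_comm
  -- lifting fixed points
  have lift : ∀ S : Subgroup B, S ≤ T → ∀ u ∈ P, (∀ t ∈ S, QuotientGroup.mk' K t * QuotientGroup.mk' K u =
      QuotientGroup.mk' K u * QuotientGroup.mk' K t) → ∃ w ∈ P, (∀ t ∈ S, t * w = w * t) ∧
      QuotientGroup.mk' K w = QuotientGroup.mk' K u := by
    intro S hS u hu hfix
    obtain ⟨w, hw, huw⟩ := CoprimeCommutator.exists_fixed_in_coset p S K (h.tp.to_le hS)
      (fun t _ => by rw [normalizer_eq_top_iff.mpr hK]; exact mem_top t) hp u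
      (fun t ht => (hcomm t u).mp (hfix t ht))
    refine ⟨w, ?_, ?_, ?_⟩
    · have : w = u * (u⁻¹ * w) := by group
      rw [this]
      exact P.mul_mem hu (hKP huw)
    · intro t ht
      exact mem_centralizer_iff.mp hw t ht
    · have h1 := (hmk _).mpr huw
      rw [map_mul, map_inv, inv_mul_eq_one] at h1
      exact h1.symm
  refine ⟨h.pg.map _, h.tp.map _, h.odd, h.nP.map _ (QuotientGroup.mk'_surjective K), ?_,
    mem_map_of_mem _ h.cP, fun h0 => hcK ((hmk _).mp h0), by rw [← map_mul, h.cc, map_one], ?_, ?_, ?_, ?_, ?_,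
    ?_, ?_⟩
  · rw [← Subgroup.map_sup, h.top, map_top_of_surjective _ (QuotientGroup.mk'_surjective K)]
  · intro g
    obtain ⟨g, rfl⟩ := QuotientGroup.mk'_surjective K g
    rw [← map_mul, h.cz, map_mul]
  · intro i
    exact map_mono (h.VP i)
  · rintro i _ ⟨t, ht, rfl⟩ _ ⟨v, hv, rfl⟩
    rw [← map_mul, ← map_inv, ← map_mul]
    exact mem_map_of_mem _ (h.VT i t ht v hv)
  · have h1 := map_mono (f := QuotientGroup.mk' K) h.gen
    rw [Subgroup.map_sup, Subgroup.map_iSup, MonoidHom.map_zpowers] at h1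
    exact h1
  · rintro i _ ⟨u, hu, rfl⟩ hfix
    obtain ⟨w, hw, hwf, hwu⟩ := lift (T ⊓ centralizer (V i : Set B)) inf_le_left u hu (by
      rintro t ⟨ht, htc⟩
      refine hfix _ (mem_map_of_mem _ ht) ?_
      rintro _ ⟨v, hv, rfl⟩
      rw [← map_mul, ← map_mul, ← mem_centralizer_iff.mp htc v hv])
    rw [← hwu]
    refine mem_map_of_mem _ (h.fix i w hw fun t ht htv => hwf t ⟨ht, ?_⟩)
    exact mem_centralizer_iff.mpr fun v hv => (htv v hv).symm
  · rintro _ ⟨u, hu, rfl⟩ hfix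
    obtain ⟨w, hw, hwf, hwu⟩ := lift T le_rfl u hu (fun t ht => hfix _ (mem_map_of_mem _ ht))
    rcases h.fixT w hw hwf with rfl | rfl
    · left; rw [← hwu, map_one]
    · right; exact hwu.symm
  · intro i
    obtain ⟨M, hcM, hMV, hM, hMT⟩ := h.spl i
    have hcV := h.c_mem_V i
    refine ⟨M.map (QuotientGroup.mk' K), ?_, map_mono hMV, ?_, ?_⟩
    · rintro ⟨m, hm, hmc⟩
      have hk : m⁻¹ * c ∈ K := by
        rw [← hmk, map_mul, map_inv, inv_mul_eq_one]; exact hmc
      have hkV : m⁻¹ * c ∈ V i := (V i).mul_mem ((V i).inv_mem (hMV hm)) hcV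
      -- `V i ⊓ K ≤ M`
      have hKn : ∀ t : B, ∀ k ∈ K, t * k * t⁻¹ ∈ K := fun t k hk => hK.conj_mem k hk t
      have hTn : T ≤ normalizer ((V i ⊓ K : Subgroup B) : Set B) := by
        intro t ht
        rw [mem_normalizer_iff]
        intro x
        constructor
        · rintro ⟨h1, h2⟩
          exact ⟨h.VT i t ht x h1, hKn t x h2⟩
        · rintro ⟨h1, h2⟩
          have h3 := h.VT i t⁻¹ (inv_mem ht) _ h1
          have h4 := hKn t⁻¹ _ h2
          constructor
          · simpa [mul_assoc] using h3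
          · simpa [mul_assoc] using h4
      obtain ⟨w, hw, f, ⟨hfV, hfT⟩, hwf⟩ := CoprimeCommutator.exists_commutator_mul_fixed_of_isPGroup p T
        (V i ⊓ K) h.tp hTn (fun hd => hp (hd.trans (card_dvd_of_le inf_le_right))) _ ⟨hkV, hk⟩
      have hf1 : f = 1 := by
        rcases h.fixT f (hKP hfV.2) (fun t ht => mem_centralizer_iff.mp hfT t ht) with h1 | h1
        · exact h1
        · exact absurd (h1 ▸ hfV.2) hcK
      have hwM : ⁅V i ⊓ K, T⁆ ≤ M := by
        rw [commutator_le]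
        rintro x ⟨hx, -⟩ t ht
        rw [commutatorElement_def]
        rcases hM x hx with h1 | h1
        · have : x * t * x⁻¹ * t⁻¹ = x * (t * x⁻¹ * t⁻¹) := by group
          rw [this]
          exact M.mul_mem h1 (hMT t ht _ (M.inv_mem h1))
        · have : x * t * x⁻¹ * t⁻¹ = (x * c) * (t * (x * c)⁻¹ * t⁻¹) := by
            rw [mul_inv_rev, h.cinv]
            calc x * t * x⁻¹ * t⁻¹ = x * (t * x⁻¹ * t⁻¹) := by group
              _ = x * (c * c) * (t * x⁻¹ * t⁻¹) := by rw [h.cc, mul_one]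
              _ = x * c * ((c * t) * x⁻¹ * t⁻¹) := by group
              _ = x * c * ((t * c) * x⁻¹ * t⁻¹) := by rw [h.cz t]
              _ = x * c * (t * (c * x⁻¹) * t⁻¹) := by group
          rw [this]
          exact M.mul_mem h1 (hMT t ht _ (M.inv_mem h1))
      apply hcM
      have h5 : m⁻¹ * c ∈ M := by
        rw [hwf, hf1, mul_one]
        exact hwM hw
      have h6 := M.mul_mem hm h5
      rwa [mul_inv_cancel_left] at h6
    · rintro _ ⟨v, hv, rfl⟩
      rcases hM v hv with h1 | h1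
      · exact Or.inl (mem_map_of_mem _ h1)
      · right
        rw [← map_mul]
        exact mem_map_of_mem _ h1
    · rintro _ ⟨t, ht, rfl⟩ _ ⟨m, hm, rfl⟩
      rw [← map_mul, ← map_inv, ← map_mul]
      exact mem_map_of_mem _ (hMT t ht m hm)

/-- two elements of `P` whose commutator lies in `<c>` for all partners: elements of the second centre -/
theorem exists_mem_second (h : WData p c P T V) {x0 : B} (hx0 : x0 ∈ P) (h01 : x0 ≠ 1) (h0c : x0 ≠ c) :
    ∃ x ∈ P, x ≠ 1 ∧ x ≠ c ∧ ∀ y ∈ P, x * y = y * x ∨ x * y = c * (y * x) := by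
  let C : Subgroup P := zpowers (⟨c, h.cP⟩ : P)
  have hC : C.Normal := by
    constructor
    intro n hn g
    have : g * n * g⁻¹ = n := by
      obtain ⟨k, rfl⟩ := mem_zpowers_iff.mp hn
      have h1 : Commute g ((⟨c, h.cP⟩ : P) ^ k) := by
        apply Commute.zpow_right
        exact Subtype.ext (h.cz g)
      rw [h1.eq, mul_inv_cancel_right]
    rw [this]; exact hn
  have hmem : ∀ x : P, x ∈ C ↔ (x : B) = 1 ∨ (x : B) = c := by
    intro x
    rw [← h.mem_zpowers_c, mem_zpowers_iff, mem_zpowers_iff]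
    constructor
    · rintro ⟨k, hk⟩
      exact ⟨k, by rw [← hk]; rfl⟩
    · rintro ⟨k, hk⟩
      exact ⟨k, Subtype.ext (by rw [← hk]; rfl)⟩
  have hne : Nontrivial (P ⧸ C) := by
    refine ⟨⟨QuotientGroup.mk ⟨x0, hx0⟩, 1, ?_⟩⟩
    intro h1
    rw [QuotientGroup.eq_one_iff, hmem] at h1
    rcases h1 with h1 | h1
    · exact h01 h1
    · exact h0c h1
  have h2 : IsPGroup 2 (P ⧸ C) := h.pg.to_quotient C
  have h3 : Nontrivial (center (P ⧸ C)) := h2.center_nontrivial
  obtain ⟨z, hz⟩ := exists_ne (1 : center (P ⧸ C))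
  obtain ⟨x, hx⟩ := QuotientGroup.mk_surjective (z : P ⧸ C)
  have hxC : x ∉ C := by
    intro h4
    rw [← QuotientGroup.eq_one_iff, hx] at h4
    exact hz (Subtype.ext h4)
  rw [hmem, not_or] at hxC
  refine ⟨x, x.2, hxC.1, hxC.2, fun y hy => ?_⟩
  have h4 := mem_center_iff.mp z.2 (QuotientGroup.mk (⟨y, hy⟩ : P))
  rw [← hx, ← QuotientGroup.mk_mul, ← QuotientGroup.mk_mul, QuotientGroup.eq, hmem] at h4
  have e : (((⟨y, hy⟩ * x : P)⁻¹ * (x * ⟨y, hy⟩ : P) : P) : B) = (y * x)⁻¹ * (x * y) := rfl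
  rw [e] at h4
  rcases h4 with h4 | h4
  · left
    rw [inv_mul_eq_one] at h4
    exact h4.symm
  · right
    rw [inv_mul_eq_iff_eq_mul] at h4
    rw [h4, h.cz]

/-- an element of odd order which commutes with `x` up to `c` commutes with `x` -/
theorem _root_.Cfsg.Agent.KFacts.Mult.Weights.commute_of_odd {B : Type u} [Group B] {c : B}
    (c1 : c ≠ 1) (cc : c * c = 1) (cz : ∀ g : B, g * c = c * g) {t x : B} {n : ℕ} (hn : Odd n)
    (ht : t ^ n = 1) (h : t * x = x * t ∨ t * x = c * (x * t)) : t * x = x * t := by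
  rcases h with h | h
  · exact h
  · exfalso
    have h1 : x⁻¹ * t * x = c * t := by
      rw [mul_assoc, h, ← mul_assoc, ← mul_assoc, cz x⁻¹]
      group
    have h2 : (c * t) ^ n = 1 := by
      rw [← h1]
      have h3 : ∀ m : ℕ, (x⁻¹ * t * x) ^ m = x⁻¹ * t ^ m * x := by
        intro m
        induction m with
        | zero => simp
        | succ m ih => rw [pow_succ, ih, pow_succ]; group
      rw [h3, ht]; group
    have h3 : (c * t) ^ n = c ^ n * t ^ n := (show Commute c t from (cz t).symm).mul_pow n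
    rw [h3, ht, mul_one] at h2
    obtain ⟨k, rfl⟩ := hn
    rw [pow_succ, pow_mul, pow_two, cc, one_pow, one_mul] at h2
    exact c1 h2

omit [Finite B] [Fact p.Prime] in
theorem pow_odd (h : WData p c P T V) {t : B} (ht : t ∈ T) : ∃ n, Odd n ∧ t ^ n = 1 := by
  obtain ⟨k, hk⟩ := h.tp ⟨t, ht⟩
  exact ⟨p ^ k, h.odd.pow, congrArg Subtype.val hk⟩

/-- the irreducible case -/
theorem base (h : WData p c P T V)
    (hmin : ∀ K : Subgroup B, K.Normal → K ≤ P → c ∉ K → K = ⊥) : ∀ x ∈ P, x = 1 ∨ x = c := by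
  by_contra hcon
  push Not at hcon
  obtain ⟨x0, hx0, h01, h0c⟩ := hcon
  obtain ⟨x, hx, hx1, hxc, hxz⟩ := h.exists_mem_second hx0 h01 h0c
  -- the second centre
  let Z : Subgroup B :=
    { carrier := {x | x ∈ P ∧ ∀ y ∈ P, x * y = y * x ∨ x * y = c * (y * x)}
      one_mem' := ⟨P.one_mem, fun y _ => Or.inl (by rw [one_mul, mul_one])⟩
      mul_mem' := by
        rintro a b ⟨ha, ha'⟩ ⟨hb, hb'⟩
        refine ⟨P.mul_mem ha hb, fun y hy => ?_⟩
        rcases hb' y hy with h1 | h1 <;> rcases ha' y hy with h2 | h2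
        · left; rw [mul_assoc, h1, ← mul_assoc, h2, mul_assoc]
        · right; rw [mul_assoc, h1, ← mul_assoc, h2]; group
        · right
          calc a * b * y = a * (b * y) := by group
            _ = (a * c) * (y * b) := by rw [h1]; group
            _ = c * (a * y) * b := by rw [h.cz a]; group
            _ = c * (y * (a * b)) := by rw [h2]; group
        · left
          calc a * b * y = a * (b * y) := by group
            _ = (a * c) * (y * b) := by rw [h1]; group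
            _ = c * (a * y) * b := by rw [h.cz a]; group
            _ = (c * c) * (y * (a * b)) := by rw [h2]; group
            _ = y * (a * b) := by rw [h.cc, one_mul]
      inv_mem' := by
        rintro a ⟨ha, ha'⟩
        refine ⟨P.inv_mem ha, fun y hy => ?_⟩
        rcases ha' y hy with h2 | h2
        · left
          calc a⁻¹ * y = a⁻¹ * (y * a) * a⁻¹ := by group
            _ = a⁻¹ * (a * y) * a⁻¹ := by rw [h2]
            _ = y * a⁻¹ := by group
        · right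
          have h3 : y * a = c * (a * y) := by rw [h2, ← mul_assoc, h.cc, one_mul]
          calc a⁻¹ * y = a⁻¹ * (y * a) * a⁻¹ := by group
            _ = (a⁻¹ * c) * a * y * a⁻¹ := by rw [h3]; group
            _ = (c * a⁻¹) * a * y * a⁻¹ := by rw [h.cz a⁻¹]
            _ = c * (y * a⁻¹) := by group }
  have hZP : Z ≤ P := fun x hx => hx.1
  have hPconj : ∀ g x : B, x ∈ P → g * x * g⁻¹ ∈ P := fun g x hx => h.nP.conj_mem x hx g
  have hZT : ∀ t : B, ∀ z ∈ Z, t * z * t⁻¹ ∈ Z := by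
    rintro t z ⟨hz, hz'⟩
    refine ⟨hPconj t z hz, fun y hy => ?_⟩
    have hy' : t⁻¹ * y * t ∈ P := by simpa using hPconj t⁻¹ y hy
    rcases hz' _ hy' with h1 | h1
    · left
      calc t * z * t⁻¹ * y = t * (z * (t⁻¹ * y * t)) * t⁻¹ := by group
        _ = t * ((t⁻¹ * y * t) * z) * t⁻¹ := by rw [h1]
        _ = y * (t * z * t⁻¹) := by group
    · right
      calc t * z * t⁻¹ * y = t * (z * (t⁻¹ * y * t)) * t⁻¹ := by group
        _ = (t * c) * ((t⁻¹ * y * t) * z) * t⁻¹ := by rw [h1]; group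
        _ = (c * t) * ((t⁻¹ * y * t) * z) * t⁻¹ := by rw [h.cz t]
        _ = c * (y * (t * z * t⁻¹)) := by group
  have hcZ : c ∈ Z := ⟨h.cP, fun y _ => Or.inl (h.cz y).symm⟩
  -- a minimal `T`-invariant subgroup
  let PE : Subgroup B → Prop := fun E => c ∈ E ∧ (∃ x ∈ E, x ≠ 1 ∧ x ≠ c) ∧ E ≤ Z ∧
    ∀ t ∈ T, ∀ e ∈ E, t * e * t⁻¹ ∈ E
  obtain ⟨E, ⟨hcE, ⟨e1, he1, he11, he1c⟩, hEZ, hET⟩, hEmin⟩ :=
    (Set.toFinite {E | PE E}).exists_minimal ⟨Z, hcZ, ⟨x, ⟨hx, hxz⟩, hx1, hxc⟩, le_rfl,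
      fun t _ z hz => hZT t z hz⟩
  have hmin' : ∀ F : Subgroup B, F ≤ E → c ∈ F → (∀ t ∈ T, ∀ e ∈ F, t * e * t⁻¹ ∈ F) → F ≠ E →
      ∀ x ∈ F, x = 1 ∨ x = c := by
    intro F hFE hcF hFT hne x hx
    by_contra hcon
    push Not at hcon
    exact hne (le_antisymm hFE (hEmin ⟨hcF, ⟨x, hx, hcon.1, hcon.2⟩, hFE.trans hEZ, hFT⟩ hFE))
  have hEP : E ≤ P := hEZ.trans hZP
  have hTodd : ∀ t ∈ T, ∀ x : B, (t * x = x * t ∨ t * x = c * (x * t)) → t * x = x * t := by
    intro t ht x hx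
    obtain ⟨n, hn, htn⟩ := h.pow_odd ht
    exact commute_of_odd h.c1 h.cc h.cz hn htn hx
  by_cases hcent : ∀ e ∈ E, ∀ y ∈ P, e * y = y * e
  · -- `E` is central in `P`
    have hTE : T ≤ normalizer (E : Set B) := by
      intro t ht
      rw [mem_normalizer_iff]
      intro x
      constructor
      · exact fun hx => hET t ht x hx
      · intro hx
        have := hET t⁻¹ (inv_mem ht) _ hx
        simpa [mul_assoc] using this
    have hcop : (Nat.card T).Coprime (Nat.card E) := by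
      obtain ⟨a, ha⟩ := IsPGroup.iff_card.mp h.tp
      obtain ⟨b, hb⟩ := IsPGroup.iff_card.mp (h.pg.to_le hEP)
      rw [ha, hb]
      exact Nat.Coprime.pow _ _ (Nat.Coprime.symm (Nat.coprime_two_left.mpr h.odd))
    have habE : ∀ x ∈ E, ∀ y ∈ E, x * y = y * x := fun x hx y hy => hcent x hx y (hEP hy)
    have h1 := CoprimeAbelian.inf_commutator_eq_bot T E habE hTE hcop
    have hKE : ⁅E, T⁆ ≤ E := CoprimeCommutator.commutator_le_left hTE
    have hcK : c ∉ ⁅E, T⁆ := by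
      intro hc
      have h2 : c ∈ (E ⊓ centralizer (T : Set B)) ⊓ ⁅E, T⁆ :=
        ⟨⟨hcE, mem_centralizer_iff.mpr fun t _ => h.cz t⟩, hc⟩
      rw [h1, mem_bot] at h2
      exact h.c1 h2
    have hKn : (⁅E, T⁆ : Subgroup B).Normal := by
      refine h.normal_of ?_ ?_
      · intro x hx k hk
        rw [← hcent k (hKE hk) x hx, mul_inv_cancel_right]
        exact hk
      · intro t ht k hk
        exact (mem_normalizer_iff.mp (CoprimeCommutator.right_le_normalizer_commutator E T ht) k).mp hk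
    have hK := hmin _ hKn (hKE.trans hEP) hcK
    have h3 : T ≤ centralizer (E : Set B) := by
      rw [← commutator_eq_bot_iff_le_centralizer, commutator_comm]
      exact hK
    rcases h.fixT e1 (hEP he1) (fun t ht => (mem_centralizer_iff.mp (h3 ht) e1 he1).symm) with h4 | h4
    · exact he11 h4
    · exact he1c h4
  · -- some `V i` does not centralise `E`
    push Not at hcent
    obtain ⟨e0, he0, y0, hy0, hne⟩ := hcent
    have hi : ∃ i, ∃ e ∈ E, ∃ v ∈ V i, e * v ≠ v * e := by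
      by_contra hcon
      push Not at hcon
      have h1 : P ≤ centralizer (E : Set B) := by
        refine h.gen.trans (sup_le (iSup_le fun i v hv => ?_) ?_)
        · exact mem_centralizer_iff.mpr fun e he => hcon i e he v hv
        · rw [zpowers_le, mem_centralizer_iff]
          exact fun e _ => h.cz e
      exact hne (mem_centralizer_iff.mp (h1 hy0) e0 he0)
    obtain ⟨i, e2, he2, v2, hv2, hne2⟩ := hi
    have hcomm2 : ∀ e ∈ E, ∀ v ∈ V i, e * v = v * e ∨ e * v = c * (v * e) := fun e he v hv =>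
      (hEZ he).2 v (h.VP i hv)
    -- the centraliser of `V i` in `E` is `<c>`
    have hF : ∀ x ∈ E ⊓ centralizer (V i : Set B), x = 1 ∨ x = c := by
      refine hmin' _ inf_le_left ⟨hcE, mem_centralizer_iff.mpr fun v _ => h.cz v⟩ ?_ ?_
      · rintro t ht e ⟨he, hev⟩
        refine ⟨hET t ht e he, mem_centralizer_iff.mpr fun v hv => ?_⟩
        have hv' : t⁻¹ * v * t ∈ V i := by
          have := h.VT i t⁻¹ (inv_mem ht) v hv
          simpa using this
        have h1 := mem_centralizer_iff.mp hev _ hv'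
        calc v * (t * e * t⁻¹) = t * ((t⁻¹ * v * t) * e) * t⁻¹ := by group
          _ = t * (e * (t⁻¹ * v * t)) * t⁻¹ := by rw [h1]
          _ = t * e * t⁻¹ * v := by group
      · intro h0
        have : e2 ∈ E ⊓ centralizer (V i : Set B) := by rw [h0]; exact he2
        exact hne2 (mem_centralizer_iff.mp this.2 v2 hv2).symm
    -- so `C_T(V i)` centralises `E`
    have hfix : ∀ e ∈ E, ∀ t ∈ T, (∀ v ∈ V i, t * v = v * t) → t * e = e * t := by
      intro e he t ht htv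
      have h1 : t * e * t⁻¹ * e⁻¹ ∈ E ⊓ centralizer (V i : Set B) := by
        refine ⟨E.mul_mem (hET t ht e he) (E.inv_mem he), mem_centralizer_iff.mpr fun v hv => ?_⟩
        have htv' : t⁻¹ * v * t = v := by rw [mul_assoc, ← htv v hv, inv_mul_cancel_left]
        rcases hcomm2 e he v hv with h2 | h2
        · calc v * (t * e * t⁻¹ * e⁻¹) = t * ((t⁻¹ * v * t) * e) * t⁻¹ * e⁻¹ := by group
            _ = t * (e * v) * t⁻¹ * e⁻¹ := by rw [htv', h2]
            _ = t * e * ((t⁻¹ * v * t) * t⁻¹) * e⁻¹ := by rw [htv']; group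
            _ = t * e * t⁻¹ * e⁻¹ * (e * v * e⁻¹) := by group
            _ = t * e * t⁻¹ * e⁻¹ * v := by rw [h2, mul_inv_cancel_right]
        · have h3 : v * e = c * (e * v) := by rw [h2, ← mul_assoc, h.cc, one_mul]
          calc v * (t * e * t⁻¹ * e⁻¹) = t * ((t⁻¹ * v * t) * e) * t⁻¹ * e⁻¹ := by group
            _ = (t * c) * (e * v) * t⁻¹ * e⁻¹ := by rw [htv', h3]; group
            _ = (c * t) * (e * v) * t⁻¹ * e⁻¹ := by rw [h.cz t]
            _ = c * (t * e * ((t⁻¹ * v * t) * t⁻¹) * e⁻¹) := by rw [htv']; group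
            _ = c * (t * e * t⁻¹ * e⁻¹) * (e * v * e⁻¹) := by group
            _ = c * (t * e * t⁻¹ * e⁻¹) * ((c * (v * e)) * e⁻¹) := by rw [h2]
            _ = (c * ((t * e * t⁻¹ * e⁻¹) * c)) * v := by group
            _ = (c * (c * (t * e * t⁻¹ * e⁻¹))) * v := by rw [h.cz (t * e * t⁻¹ * e⁻¹)]
            _ = (c * c) * (t * e * t⁻¹ * e⁻¹) * v := by group
            _ = t * e * t⁻¹ * e⁻¹ * v := by rw [h.cc, one_mul]
      apply hTodd t ht
      rcases hF _ h1 with h2 | h2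
      · left
        rw [mul_inv_eq_one, mul_inv_eq_iff_eq_mul] at h2
        exact h2
      · right
        rw [mul_inv_eq_iff_eq_mul, mul_inv_eq_iff_eq_mul] at h2
        rw [h2, mul_assoc]
    have hEV : E ≤ V i := fun e he => h.fix i e (hEP he) fun t ht htv => hfix e he t ht htv
    obtain ⟨M, hcM, hMV, hM, -⟩ := h.spl i
    -- commutators of `V i` lie in `M`
    have hcom : ∀ a ∈ V i, ∀ b ∈ V i, a * b * a⁻¹ * b⁻¹ ∈ M := by
      intro a ha b hb
      have h1 : ∀ a' b' : B, a' ∈ M → b' ∈ M → a' * b' * a'⁻¹ * b'⁻¹ ∈ M := fun a' b' h1 h2 =>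
        M.mul_mem (M.mul_mem (M.mul_mem h1 h2) (M.inv_mem h1)) (M.inv_mem h2)
      have h2 : ∀ a b : B, (a * c) * b * (a * c)⁻¹ * b⁻¹ = a * b * a⁻¹ * b⁻¹ := by
        intro a b
        rw [mul_inv_rev, h.cinv]
        calc a * c * b * (c * a⁻¹) * b⁻¹ = a * c * (b * c) * a⁻¹ * b⁻¹ := by group
          _ = a * c * (c * b) * a⁻¹ * b⁻¹ := by rw [h.cz b]
          _ = a * (c * c) * b * a⁻¹ * b⁻¹ := by group
          _ = _ := by rw [h.cc, mul_one]
      have h3 : ∀ a b : B, a * (b * c) * a⁻¹ * (b * c)⁻¹ = a * b * a⁻¹ * b⁻¹ := by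
        intro a b
        rw [mul_inv_rev, h.cinv]
        calc a * (b * c) * a⁻¹ * (c * b⁻¹) = a * b * (c * (a⁻¹ * c)) * b⁻¹ := by group
          _ = a * b * (c * (c * a⁻¹)) * b⁻¹ := by rw [h.cz a⁻¹]
          _ = a * b * ((c * c) * a⁻¹) * b⁻¹ := by group
          _ = _ := by rw [h.cc, one_mul]
      rcases hM a ha with h4 | h4 <;> rcases hM b hb with h5 | h5
      · exact h1 _ _ h4 h5
      · rw [← h3]; exact h1 _ _ h4 h5
      · rw [← h2]; exact h1 _ _ h4 h5
      · rw [← h2, ← h3]; exact h1 _ _ h4 h5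
    have h1 := hcom e2 (hEV he2) v2 hv2
    rcases hcomm2 e2 he2 v2 hv2 with h2 | h2
    · exact hne2 h2
    · apply hcM
      have h3 : e2 * v2 * e2⁻¹ * v2⁻¹ = c := by
        rw [h2]; group
      rwa [h3] at h1

end WData

/-- **The splitting criterion.** -/
theorem exists_compl {ι : Type v} {p : ℕ} [Fact p.Prime] : ∀ (n : ℕ) {B : Type u} [Group B] [Finite B]
    {c : B} {P T : Subgroup B} {V : ι → Subgroup B}, WData p c P T V → Nat.card B = n →
      ∃ K : Subgroup B, K ≤ P ∧ c ∉ K ∧ ∀ x ∈ P, x ∈ K ∨ x * c ∈ K := by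
  intro n
  induction n using Nat.strong_induction_on with
  | _ n ih =>
    intro B _ _ c P T V h hn
    by_cases hex : ∃ K : Subgroup B, K.Normal ∧ K ≤ P ∧ c ∉ K ∧ K ≠ ⊥
    · obtain ⟨K, hK, hKP, hcK, hne⟩ := hex
      have hlt : Nat.card (B ⧸ K) < n := by
        have h1 := K.card_mul_index
        rw [hn] at h1
        have h2 : 1 < Nat.card K := (K.one_lt_card_iff_ne_bot).mpr hne
        have h3 : Nat.card (B ⧸ K) = K.index := rfl
        rw [h3, ← h1]
        have h4 : 0 < K.index := Nat.pos_of_ne_zero K.index_ne_zero_of_finite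
        nlinarith
      obtain ⟨K', hK'P, hcK', hall⟩ := ih _ hlt (h.quotient hKP hcK) rfl
      refine ⟨K'.comap (QuotientGroup.mk' K), ?_, hcK', ?_⟩
      · refine (Subgroup.comap_mono hK'P).trans ?_
        rw [Subgroup.comap_map_eq, QuotientGroup.ker_mk']
        exact sup_le le_rfl hKP
      · intro x hx
        rcases hall _ (mem_map_of_mem _ hx) with h1 | h1
        · exact Or.inl h1
        · right
          rw [mem_comap, map_mul]
          exact h1
    · push Not at hex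
      refine ⟨⊥, bot_le, fun h0 => h.c1 (mem_bot.mp h0), fun x hx => ?_⟩
      rcases h.base (fun K h1 h2 h3 => hex K h1 h2 h3) x hx with rfl | rfl
      · exact Or.inl (mem_bot.mpr rfl)
      · exact Or.inr (mem_bot.mpr h.cc)

end Cfsg.Agent.KFacts.Mult.Weights

end

-- merged: Cfsg.Agent.KFacts.Mult.WeightsTwo
section

/-!
helper517 (ODD D10, MULT-LIE2): groups without perfect double covers, from weights.

* `exists_compl'` : `Weights.exists_compl` without the hypothesis `P T = B`.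
* `comm_of_le_commutator` : if `V ≤ C(V)'` then the preimage of `V` in a double cover is abelian.
* `WHyp p U T V`, `WHyp.noDouble`.
-/

set_option autoImplicit false

namespace Cfsg.Agent.KFacts.Mult.WeightsTwo

open Subgroup Cfsg.Agent.Lib Cfsg.Agent.KFacts.Mult.Weights Cfsg.Agent.KFacts.MulDef
  Cfsg.Agent.KFacts.MulTwo
open scoped commutatorElement

universe u v w

theorem conj_mem_iff_normalizer {B : Type*} [Group B] {K T : Subgroup B} :
    T ≤ normalizer (K : Set B) ↔ ∀ t ∈ T, ∀ k ∈ K, t * k * t⁻¹ ∈ K := by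
  constructor
  · exact fun h t ht k hk => (mem_normalizer_iff.mp (h ht) k).mp hk
  · intro h t ht
    rw [mem_normalizer_iff]
    intro k
    constructor
    · exact fun hk => h t ht k hk
    · intro hk
      have := h t⁻¹ (inv_mem ht) _ hk
      simpa [mul_assoc] using this

/-- The splitting criterion inside an arbitrary group. -/
theorem exists_compl' {ι : Type v} {p : ℕ} [Fact p.Prime] {B : Type u} [Group B] [Finite B] {c : B}
    {P T : Subgroup B} {V : ι → Subgroup B} (pg : IsPGroup 2 P) (tp : IsPGroup p T) (odd : Odd p)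
    (nP : ∀ t ∈ T, ∀ x ∈ P, t * x * t⁻¹ ∈ P) (cP : c ∈ P) (c1 : c ≠ 1) (cc : c * c = 1)
    (cz : ∀ g : B, g * c = c * g) (VP : ∀ i, V i ≤ P)
    (VT : ∀ i, ∀ t ∈ T, ∀ v ∈ V i, t * v * t⁻¹ ∈ V i) (gen : P ≤ (⨆ i, V i) ⊔ zpowers c)
    (fix : ∀ i, ∀ u ∈ P, (∀ t ∈ T, (∀ v ∈ V i, t * v = v * t) → t * u = u * t) → u ∈ V i)
    (fixT : ∀ u ∈ P, (∀ t ∈ T, t * u = u * t) → u = 1 ∨ u = c)
    (spl : ∀ i, ∃ M : Subgroup B, c ∉ M ∧ M ≤ V i ∧ (∀ v ∈ V i, v ∈ M ∨ v * c ∈ M) ∧
      ∀ t ∈ T, ∀ m ∈ M, t * m * t⁻¹ ∈ M) :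
    ∃ K : Subgroup B, K ≤ P ∧ c ∉ K ∧ ∀ x ∈ P, x ∈ K ∨ x * c ∈ K := by
  set H : Subgroup B := P ⊔ T with hH
  have hPH : P ≤ H := le_sup_left
  have hTH : T ≤ H := le_sup_right
  have hcH : c ∈ H := hPH cP
  have hn : H ≤ normalizer (P : Set B) := sup_le le_normalizer (conj_mem_iff_normalizer.mpr nP)
  have hmap : ∀ S : Subgroup B, S ≤ H → (S.subgroupOf H).map H.subtype = S := fun S hS => by
    rw [subgroupOf_map_subtype]
    exact inf_eq_left.mpr hS
  have hd : WData p (⟨c, hcH⟩ : H) (P.subgroupOf H) (T.subgroupOf H) (fun i => (V i).subgroupOf H) := by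
    refine ⟨?_, ?_, odd, ?_, ?_, mem_subgroupOf.mpr cP, fun h0 => c1 (congrArg Subtype.val h0),
      Subtype.ext cc, fun g => Subtype.ext (cz g), fun i x hx => VP i hx, ?_, ?_, ?_, ?_, ?_⟩
    · exact pg.comap_of_injective H.subtype H.subtype_injective
    · exact tp.comap_of_injective H.subtype H.subtype_injective
    · constructor
      intro x hx g
      exact (mem_normalizer_iff.mp (hn g.2) x).mp hx
    · rw [← (Subgroup.map_injective H.subtype_injective).eq_iff, Subgroup.map_sup, hmap P hPH,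
        hmap T hTH, ← MonoidHom.range_eq_map, H.range_subtype]
    · exact fun i t ht v hv => VT i t ht v hv
    · rw [← Subgroup.map_le_map_iff_of_injective H.subtype_injective, hmap P hPH, Subgroup.map_sup,
        Subgroup.map_iSup, MonoidHom.map_zpowers]
      refine gen.trans (sup_le_sup (iSup_mono fun i => ?_) le_rfl)
      rw [hmap _ ((VP i).trans hPH)]
    · intro i u hu hf
      refine fix i u hu fun t ht htv => ?_
      exact congrArg Subtype.val (hf ⟨t, hTH ht⟩ ht fun v hv => Subtype.ext (htv v hv))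
    · intro u hu hf
      rcases fixT u hu (fun t ht => congrArg Subtype.val (hf ⟨t, hTH ht⟩ ht)) with h1 | h1
      · exact Or.inl (Subtype.ext h1)
      · exact Or.inr (Subtype.ext h1)
    · intro i
      obtain ⟨M, h1, h2, h3, h4⟩ := spl i
      exact ⟨M.subgroupOf H, h1, fun x hx => h2 hx, fun v hv => h3 v hv, fun t ht m hm => h4 t ht m hm⟩
  obtain ⟨K, h1, h2, h3⟩ := exists_compl _ hd rfl
  refine ⟨K.map H.subtype, ?_, ?_, ?_⟩
  · rintro _ ⟨k, hk, rfl⟩
    exact h1 hk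
  · rintro ⟨k, hk, hkc⟩
    apply h2
    have : k = ⟨c, hcH⟩ := Subtype.ext hkc
    rwa [← this]
  · intro x hx
    rcases h3 ⟨x, hPH hx⟩ hx with h4 | h4
    · exact Or.inl ⟨_, h4, rfl⟩
    · exact Or.inr ⟨_, h4, rfl⟩

section Cover

variable {L : Type u} {X : Type w} [Group L] [Group X] {π : L →* X} {c : L}

theorem Dbl_cz (hd : Dbl π c) (g : L) : g * c = c * g := (hd.cen g).symm

/-- commuting elements of the quotient -/
theorem comm_or (hd : Dbl π c) {x y : L} (h : π x * π y = π y * π x) :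
    x * y = y * x ∨ x * y = c * (y * x) := by
  have h1 : π ((x * y) * (y * x)⁻¹) = 1 := by
    rw [map_mul, map_inv, map_mul, map_mul, h, mul_inv_cancel]
  rcases (hd.ker _).mp h1 with h2 | h2
  · left; exact mul_inv_eq_one.mp h2
  · right; exact mul_inv_eq_iff_eq_mul.mp h2

/-- If `V ≤ C(V)'` then the preimage of `V` is abelian. -/
theorem comm_of_le_commutator (hd : Dbl π c) {V : Subgroup X}
    (hV : V ≤ ⁅centralizer (V : Set X), centralizer (V : Set X)⁆) {x y : L} (hx : π x ∈ V)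
    (hy : π y ∈ V) : x * y = y * x := by
  set C : Subgroup L := (centralizer (V : Set X)).comap π with hC
  have h1 : ⁅C, C⁆ ≤ centralizer ({x} : Set L) := by
    rw [commutator_le]
    intro a ha b hb
    rw [mem_centralizer_singleton_iff]
    have hax : a * x = x * a ∨ a * x = c * (x * a) :=
      comm_or hd (mem_centralizer_iff.mp ha _ hx).symm
    have hbx : b * x = x * b ∨ b * x = c * (x * b) :=
      comm_or hd (mem_centralizer_iff.mp hb _ hx).symm
    have key : ∀ a : L, (a * x = x * a ∨ a * x = c * (x * a)) → ∃ e : L, (∀ g : L, g * e = e * g) ∧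
        a * x = e * (x * a) := by
      rintro a (h | h)
      · exact ⟨1, fun g => by simp, by rw [one_mul]; exact h⟩
      · exact ⟨c, Dbl_cz hd, h⟩
    obtain ⟨e, he, hae⟩ := key a hax
    obtain ⟨f, hf, hbf⟩ := key b hbx
    have hx1 : a * x * a⁻¹ = e * x := by rw [hae]; group
    have hx2 : b * x * b⁻¹ = f * x := by rw [hbf]; group
    have hx3 : a⁻¹ * x * a = e⁻¹ * x := by
      have : x = e⁻¹ * (a * x * a⁻¹) := by rw [hx1, inv_mul_cancel_left]
      calc a⁻¹ * x * a = a⁻¹ * (e⁻¹ * (a * x * a⁻¹)) * a := by rw [← this]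
        _ = (a⁻¹ * e⁻¹) * a * x := by group
        _ = (e⁻¹ * a⁻¹) * a * x := by
          rw [show a⁻¹ * e⁻¹ = e⁻¹ * a⁻¹ by rw [← mul_inv_rev, ← mul_inv_rev, he a]]
        _ = e⁻¹ * x := by group
    have hx4 : b⁻¹ * x * b = f⁻¹ * x := by
      have : x = f⁻¹ * (b * x * b⁻¹) := by rw [hx2, inv_mul_cancel_left]
      calc b⁻¹ * x * b = b⁻¹ * (f⁻¹ * (b * x * b⁻¹)) * b := by rw [← this]
        _ = (b⁻¹ * f⁻¹) * b * x := by group
        _ = (f⁻¹ * b⁻¹) * b * x := by
          rw [show b⁻¹ * f⁻¹ = f⁻¹ * b⁻¹ by rw [← mul_inv_rev, ← mul_inv_rev, hf b]]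
        _ = f⁻¹ * x := by group
    have h5 : ⁅a, b⁆ * x * ⁅a, b⁆⁻¹ = x := by
      rw [commutatorElement_def]
      calc a * b * a⁻¹ * b⁻¹ * x * (a * b * a⁻¹ * b⁻¹)⁻¹
          = a * b * (a⁻¹ * (b⁻¹ * x * b) * a) * b⁻¹ * a⁻¹ := by group
        _ = a * b * (a⁻¹ * (f⁻¹ * x) * a) * b⁻¹ * a⁻¹ := by rw [hx4]
        _ = a * b * ((a⁻¹ * f⁻¹) * x * a) * b⁻¹ * a⁻¹ := by group
        _ = a * b * ((f⁻¹ * a⁻¹) * x * a) * b⁻¹ * a⁻¹ := by
          rw [show a⁻¹ * f⁻¹ = f⁻¹ * a⁻¹ by rw [← mul_inv_rev, ← mul_inv_rev, hf a]]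
        _ = a * b * (f⁻¹ * (a⁻¹ * x * a)) * b⁻¹ * a⁻¹ := by group
        _ = a * (b * f⁻¹) * e⁻¹ * x * b⁻¹ * a⁻¹ := by rw [hx3]; group
        _ = a * (f⁻¹ * b) * e⁻¹ * x * b⁻¹ * a⁻¹ := by
          rw [show b * f⁻¹ = f⁻¹ * b by
            rw [eq_inv_mul_iff_mul_eq, ← mul_assoc, ← hf b, mul_inv_cancel_right]]
        _ = a * f⁻¹ * (b * e⁻¹) * x * b⁻¹ * a⁻¹ := by group
        _ = a * f⁻¹ * (e⁻¹ * b) * x * b⁻¹ * a⁻¹ := by
          rw [show b * e⁻¹ = e⁻¹ * b by
            rw [eq_inv_mul_iff_mul_eq, ← mul_assoc, ← he b, mul_inv_cancel_right]]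
        _ = a * f⁻¹ * e⁻¹ * (b * x * b⁻¹) * a⁻¹ := by group
        _ = a * f⁻¹ * e⁻¹ * (f * x) * a⁻¹ := by rw [hx2]
        _ = a * f⁻¹ * (e⁻¹ * f) * x * a⁻¹ := by group
        _ = a * f⁻¹ * (f * e⁻¹) * x * a⁻¹ := by rw [hf e⁻¹]
        _ = (a * e⁻¹) * x * a⁻¹ := by group
        _ = (e⁻¹ * a) * x * a⁻¹ := by
          rw [show a * e⁻¹ = e⁻¹ * a by
            rw [eq_inv_mul_iff_mul_eq, ← mul_assoc, ← he a, mul_inv_cancel_right]]
        _ = e⁻¹ * (a * x * a⁻¹) := by group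
        _ = x := by rw [hx1, inv_mul_cancel_left]
    rw [mul_inv_eq_iff_eq_mul] at h5
    exact h5
  have h2 : (⁅C, C⁆).map π = ⁅centralizer (V : Set X), centralizer (V : Set X)⁆ := by
    rw [Subgroup.map_commutator, Subgroup.map_comap_eq_self_of_surjective hd.surj]
  have h3 : π y ∈ (⁅C, C⁆).map π := by rw [h2]; exact hV hy
  obtain ⟨z, hz, hzy⟩ := h3
  have h4 : z * x = x * z := mem_centralizer_singleton_iff.mp (h1 hz)
  have h5 : π (z⁻¹ * y) = 1 := by rw [map_mul, map_inv, hzy, inv_mul_cancel]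
  rcases (hd.ker _).mp h5 with h6 | h6
  · rw [inv_mul_eq_one] at h6
    rw [← h6]; exact h4.symm
  · rw [inv_mul_eq_iff_eq_mul] at h6
    rw [h6, ← mul_assoc, ← h4, mul_assoc, mul_assoc, Dbl_cz hd x]

/-- a `p`-subgroup lifts -/
theorem exists_lift [Finite L] (hd : Dbl π c) {p : ℕ} [Fact p.Prime] (hp : Odd p) {T : Subgroup X}
    (hT : IsPGroup p T) : ∃ T' : Subgroup L, IsPGroup p T' ∧ T'.map π = T := by
  have : Finite X := Finite.of_surjective π hd.surj
  obtain ⟨S⟩ : Nonempty (Sylow p (T.comap π)) := inferInstance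
  refine ⟨(S : Subgroup (T.comap π)).map (T.comap π).subtype, S.2.map _, ?_⟩
  have hle : ((S : Subgroup (T.comap π)).map (T.comap π).subtype).map π ≤ T := by
    rintro _ ⟨_, ⟨s, -, rfl⟩, rfl⟩
    exact s.2
  apply le_antisymm hle
  -- every element of `T` is in the image
  intro t ht
  obtain ⟨x, rfl⟩ := hd.surj t
  obtain ⟨k, hk⟩ := hT ⟨π x, ht⟩
  have hk' : (π x) ^ p ^ k = 1 := congrArg Subtype.val hk
  -- adjust `x` to have odd order
  obtain ⟨y, hy, hyk⟩ : ∃ y : L, π y = π x ∧ y ^ p ^ k = 1 := by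
    have h1 : π (x ^ p ^ k) = 1 := by rw [map_pow, hk']
    rcases (hd.ker _).mp h1 with h2 | h2
    · exact ⟨x, rfl, h2⟩
    · refine ⟨c * x, by rw [map_mul, (hd.ker c).mpr (Or.inr rfl), one_mul], ?_⟩
      rw [(show Commute c x from hd.cen x).mul_pow, h2]
      obtain ⟨j, hj⟩ := hp.pow (n := k)
      rw [hj, pow_succ, pow_mul, pow_two, hd.sq, one_pow, one_mul, hd.sq]
  have hyT : y ∈ T.comap π := by rw [mem_comap, hy]; exact ht
  -- `y` is in a conjugate of `S`
  let Y : Subgroup (T.comap π) := zpowers ⟨y, hyT⟩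
  have hY : IsPGroup p Y := by
    rintro ⟨z, hz⟩
    obtain ⟨j, rfl⟩ := mem_zpowers_iff.mp hz
    refine ⟨k, Subtype.ext (Subtype.ext ?_)⟩
    show (y ^ j) ^ p ^ k = 1
    rw [← zpow_natCast, ← zpow_mul, mul_comm, zpow_mul, zpow_natCast, hyk, one_zpow]
  -- use cardinalities instead
  have hcard : Nat.card (T.comap π) = 2 * Nat.card T := by
    let f : T.comap π →* T :=
      { toFun := fun x => ⟨π x, x.2⟩
        map_one' := Subtype.ext (map_one π)
        map_mul' := fun x y => Subtype.ext (map_mul π _ _) }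
    have hf : Function.Surjective f := by
      rintro ⟨t, ht⟩
      obtain ⟨x, rfl⟩ := hd.surj t
      exact ⟨⟨x, ht⟩, rfl⟩
    have hker : Nat.card f.ker = 2 := by
      have hc : c ∈ T.comap π := by
        rw [mem_comap, (hd.ker c).mpr (Or.inr rfl)]; exact T.one_mem
      rw [Nat.card_eq_two_iff]
      refine ⟨1, ⟨⟨c, hc⟩, ?_⟩, ?_, ?_⟩
      · rw [MonoidHom.mem_ker]
        exact Subtype.ext ((hd.ker c).mpr (Or.inr rfl))
      · intro h0
        exact hd.ne (congrArg (fun z : f.ker => ((z : T.comap π) : L)) h0).symm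
      · ext z
        simp only [Set.mem_insert_iff, Set.mem_singleton_iff, Set.mem_univ, iff_true]
        have hz : π z.1.1 = 1 := congrArg Subtype.val (MonoidHom.mem_ker.mp z.2)
        rcases (hd.ker _).mp hz with h1 | h1
        · exact Or.inl (Subtype.ext (Subtype.ext h1))
        · exact Or.inr (Subtype.ext (Subtype.ext h1))
    have h1 := f.ker.card_mul_index
    rw [Subgroup.index_ker, MonoidHom.range_eq_top.mpr hf, Subgroup.card_top, hker] at h1
    exact h1.symm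
  obtain ⟨a, ha⟩ := IsPGroup.iff_card.mp hT
  have hp2 : p ≠ 2 := by rintro rfl; exact absurd hp (by decide)
  have hS : Nat.card S = Nat.card T := by
    rw [Sylow.card_eq_multiplicity, hcard, ha,
      Nat.factorization_mul (by norm_num) (pow_ne_zero _ (Fact.out : p.Prime).ne_zero),
      Finsupp.add_apply, Nat.Prime.factorization Nat.prime_two,
      Finsupp.single_eq_of_ne hp2, zero_add, (Fact.out : p.Prime).factorization_pow,
      Finsupp.single_eq_same]
  have hinj : Function.Injective (fun s : (S : Subgroup (T.comap π)) => π (s : T.comap π)) := by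
    intro s s' hss
    have h1 : π ((s : T.comap π) * ((s' : T.comap π) : L)⁻¹) = 1 := by
      rw [map_mul, map_inv]
      exact mul_inv_eq_one.mpr hss
    rcases (hd.ker _).mp h1 with h2 | h2
    · exact Subtype.ext (Subtype.ext (mul_inv_eq_one.mp h2))
    · exfalso
      obtain ⟨j, hj⟩ := S.2 (s * s'⁻¹)
      have h3 : ((s : T.comap π) * ((s' : T.comap π) : L)⁻¹) ^ p ^ j = 1 :=
        congrArg (fun z : (S : Subgroup (T.comap π)) => ((z : T.comap π) : L)) hj
      rw [h2] at h3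
      obtain ⟨i, hi⟩ := hp.pow (n := j)
      rw [hi, pow_succ, pow_mul, pow_two, hd.sq, one_pow, one_mul] at h3
      exact hd.ne h3
  have hcm : Nat.card (((S : Subgroup (T.comap π)).map (T.comap π).subtype).map π) = Nat.card T := by
    rw [← hS]
    refine Nat.card_congr (Equiv.ofBijective (fun s : (S : Subgroup (T.comap π)) =>
      (⟨π (s : T.comap π), _, ⟨_, s.2, rfl⟩, rfl⟩ : ↥(((S : Subgroup (T.comap π)).map
        (T.comap π).subtype).map π))) ⟨?_, ?_⟩).symm
    · intro s s' hss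
      exact hinj (congrArg Subtype.val hss)
    · rintro ⟨_, _, ⟨s, hs, rfl⟩, rfl⟩
      exact ⟨⟨s, hs⟩, rfl⟩
  have heq := Subgroup.eq_of_le_of_card_ge hle (by rw [hcm])
  rw [heq]
  exact ht

end Cover

/-- Weight hypotheses for `X`. -/
structure WHyp {ι : Type v} {X : Type w} [Group X] (p : ℕ) (U T : Subgroup X) (V : ι → Subgroup X) :
    Prop where
  pg : IsPGroup 2 U
  idx : ¬ 2 ∣ U.index
  tp : IsPGroup p T
  odd : Odd p
  UT : ∀ t ∈ T, ∀ x ∈ U, t * x * t⁻¹ ∈ U
  VU : ∀ i, V i ≤ U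
  VT : ∀ i, ∀ t ∈ T, ∀ v ∈ V i, t * v * t⁻¹ ∈ V i
  gen : U ≤ ⨆ i, V i
  fix : ∀ i, ∀ u ∈ U, (∀ t ∈ T, (∀ v ∈ V i, t * v = v * t) → t * u = u * t) → u ∈ V i
  fixT : ∀ u ∈ U, (∀ t ∈ T, t * u = u * t) → u = 1

/-- The preimage of `V` splits in every double cover (with a complement normalised by `T`). -/
def Spl {X : Type w} [Group X] (T V : Subgroup X) : Prop :=
  ∀ (L : Type) [Group L] [Finite L] (π : L →* X) (c : L), Dbl π c →
    ∃ M : Subgroup L, c ∉ M ∧ M ≤ V.comap π ∧ (∀ v ∈ V.comap π, v ∈ M ∨ v * c ∈ M) ∧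
      ∀ t ∈ T.comap π, ∀ m ∈ M, t * m * t⁻¹ ∈ M

/-- abelian preimage -/
theorem Spl.of_comm {X : Type w} [Group X] {p : ℕ} [Fact p.Prime] (hp : Odd p) {T V : Subgroup X}
    (hT : IsPGroup p T) (hV2 : IsPGroup 2 V) (hVT : ∀ t ∈ T, ∀ v ∈ V, t * v * t⁻¹ ∈ V)
    (hfix : ∀ v ∈ V, (∀ t ∈ T, t * v = v * t) → v = 1)
    (hab : ∀ (L : Type) [Group L] [Finite L] (π : L →* X) (c : L), Dbl π c → ∀ x y : L, π x ∈ V →
      π y ∈ V → x * y = y * x) : Spl T V := by
  intro L _ _ π c hd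
  obtain ⟨T', hT'p, hT'⟩ := exists_lift hd hp hT
  have hker : ∀ x : L, π x = 1 ↔ x = 1 ∨ x = c := hd.ker
  have hT'T : ∀ t ∈ T', π t ∈ T := fun t ht => by rw [← hT']; exact mem_map_of_mem _ ht
  have hcommlift : ∀ t ∈ T', ∀ x : L, π t * π x = π x * π t → t * x = x * t := by
    intro t ht x hx
    obtain ⟨k, hk⟩ := hT'p ⟨t, ht⟩
    exact commute_of_odd hd.ne hd.sq (Dbl_cz hd) (hp.pow (n := k)) (congrArg Subtype.val hk)
      (comm_or hd hx)
  have hcV : c ∈ V.comap π := by rw [mem_comap, (hker c).mpr (Or.inr rfl)]; exact V.one_mem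
  set W : Subgroup L := V.comap π with hW
  have hWab : ∀ x ∈ W, ∀ y ∈ W, x * y = y * x := fun x hx y hy => hab L π c hd x y hx hy
  have hWT : T' ≤ normalizer (W : Set L) := by
    rw [conj_mem_iff_normalizer]
    intro t ht x hx
    rw [hW, mem_comap, map_mul, map_mul, map_inv]
    exact hVT _ (hT'T t ht) _ hx
  have hW2 : IsPGroup 2 W := by
    rintro ⟨x, hx⟩
    obtain ⟨k, hk⟩ := hV2 ⟨π x, hx⟩
    refine ⟨k + 1, Subtype.ext ?_⟩
    show x ^ 2 ^ (k + 1) = 1
    have h1 : π (x ^ 2 ^ k) = 1 := by rw [map_pow]; exact congrArg Subtype.val hk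
    rw [pow_succ, pow_mul, pow_two]
    rcases (hker _).mp h1 with h2 | h2
    · rw [h2, one_mul]
    · rw [h2, hd.sq]
  have hcop : (Nat.card T').Coprime (Nat.card W) := by
    obtain ⟨a, ha⟩ := IsPGroup.iff_card.mp hT'p
    obtain ⟨b, hb⟩ := IsPGroup.iff_card.mp hW2
    rw [ha, hb]
    exact Nat.Coprime.pow _ _ (Nat.Coprime.symm (Nat.coprime_two_left.mpr hp))
  have h1 := CoprimeAbelian.inf_commutator_eq_bot T' W hWab hWT hcop
  have h2 := CoprimeAbelian.sup_commutator_eq T' W hWab hWT hcop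
  have hle : ⁅W, T'⁆ ≤ W := CoprimeCommutator.commutator_le_left hWT
  refine ⟨⁅W, T'⁆, ?_, hle, ?_, ?_⟩
  · intro hc
    have h3 : c ∈ (W ⊓ centralizer (T' : Set L)) ⊓ ⁅W, T'⁆ :=
      ⟨⟨hcV, mem_centralizer_iff.mpr fun t _ => Dbl_cz hd t⟩, hc⟩
    rw [h1, mem_bot] at h3
    exact hd.ne h3
  · intro v hv
    have h3 : v ∈ (W ⊓ centralizer (T' : Set L)) ⊔ ⁅W, T'⁆ := by rw [h2]; exact hv
    have h4 : W ⊓ centralizer (T' : Set L) ≤ normalizer ((⁅W, T'⁆ : Subgroup L) : Set L) := by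
      rw [conj_mem_iff_normalizer]
      rintro x ⟨hx, -⟩ y hy
      rw [hWab x hx y (hle hy), mul_inv_cancel_right]
      exact hy
    rw [← SetLike.mem_coe, Subgroup.coe_mul_of_left_le_normalizer_right _ _ h4] at h3
    obtain ⟨x, ⟨hxW, hxT⟩, y, hy, rfl⟩ := h3
    have hx1 : x = 1 ∨ x = c := by
      rw [← hker]
      apply hfix _ hxW
      intro t ht
      rw [← hT'] at ht
      obtain ⟨t, ht, rfl⟩ := ht
      rw [← map_mul, mem_centralizer_iff.mp hxT t ht, map_mul]
    rcases hx1 with rfl | rfl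
    · left
      show 1 * y ∈ _
      rw [one_mul]; exact hy
    · right
      show x * y * x ∈ _
      rw [hd.cen y, mul_assoc, hd.sq, mul_one]
      exact hy
  · intro t ht m hm
    -- `t = t' x` with `t' ∈ T'` and `x ∈ <c>`
    rw [mem_comap, ← hT'] at ht
    obtain ⟨t', ht', htt⟩ := ht
    have h3 : π (t'⁻¹ * t) = 1 := by rw [map_mul, map_inv, htt, inv_mul_cancel]
    have h4 : t * m * t⁻¹ = t' * m * t'⁻¹ := by
      rcases (hker _).mp h3 with h5 | h5
      · rw [inv_mul_eq_one.mp h5]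
      · rw [inv_mul_eq_iff_eq_mul] at h5
        rw [h5, mul_inv_rev]
        calc t' * c * m * (c⁻¹ * t'⁻¹) = t' * ((c * m) * c⁻¹) * t'⁻¹ := by group
          _ = t' * ((m * c) * c⁻¹) * t'⁻¹ := by rw [hd.cen m]
          _ = t' * m * t'⁻¹ := by group
    rw [h4]
    exact (mem_normalizer_iff.mp (CoprimeCommutator.right_le_normalizer_commutator W T' ht') m).mp hm

/-- **No double covers, from weights.** -/
theorem WHyp.noDouble {ι : Type v} {X : Type w} [Group X] {p : ℕ} [Fact p.Prime] {U T : Subgroup X}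
    {V : ι → Subgroup X} (h : WHyp p U T V) (hs : ∀ i, Spl T (V i)) : NoDouble X := by
  intro L _ _ π c hd
  obtain ⟨T', hT'p, hT'⟩ := exists_lift hd h.odd h.tp
  have hker : ∀ x : L, π x = 1 ↔ x = 1 ∨ x = c := hd.ker
  have hT'T : ∀ t ∈ T', π t ∈ T := fun t ht => by rw [← hT']; exact mem_map_of_mem _ ht
  have hcommlift : ∀ t ∈ T', ∀ x : L, π t * π x = π x * π t → t * x = x * t := by
    intro t ht x hx
    obtain ⟨k, hk⟩ := hT'p ⟨t, ht⟩
    exact commute_of_odd hd.ne hd.sq (Dbl_cz hd) (h.odd.pow (n := k)) (congrArg Subtype.val hk)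
      (comm_or hd hx)
  have hπc : π c = 1 := (hker c).mpr (Or.inr rfl)
  have hcP : c ∈ U.comap π := by rw [mem_comap, hπc]; exact U.one_mem
  have hUg : IsPGroup 2 (U.comap π) := by
    rintro ⟨x, hx⟩
    obtain ⟨k, hk⟩ := h.pg ⟨π x, hx⟩
    refine ⟨k + 1, Subtype.ext ?_⟩
    show x ^ 2 ^ (k + 1) = 1
    have h1 : π (x ^ 2 ^ k) = 1 := by rw [map_pow]; exact congrArg Subtype.val hk
    rw [pow_succ, pow_mul, pow_two]
    rcases (hker _).mp h1 with h2 | h2
    · rw [h2, one_mul]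
    · rw [h2, hd.sq]
  obtain ⟨K, hKP, hcK, hK⟩ := exists_compl' (P := U.comap π) (T := T') (V := fun i => (V i).comap π)
    (c := c) hUg hT'p h.odd
    (fun t ht x hx => by
      rw [mem_comap, map_mul, map_mul, map_inv]; exact h.UT _ (hT'T t ht) _ hx)
    hcP hd.ne hd.sq (Dbl_cz hd) (fun i => Subgroup.comap_mono (h.VU i))
    (fun i t ht v hv => by
      rw [mem_comap, map_mul, map_mul, map_inv]; exact h.VT i _ (hT'T t ht) _ hv)
    (by
      intro x hx
      have h1 : π x ∈ (⨆ i, (V i).comap π).map π := by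
        rw [Subgroup.map_iSup]
        have h2 : ∀ i, ((V i).comap π).map π = V i := fun i =>
          Subgroup.map_comap_eq_self_of_surjective hd.surj _
        simp only [h2]
        exact h.gen hx
      obtain ⟨y, hy, hyx⟩ := h1
      have h3 : π (y⁻¹ * x) = 1 := by rw [map_mul, map_inv, hyx, inv_mul_cancel]
      have h4 : x = y * (y⁻¹ * x) := by group
      rw [h4]
      refine Subgroup.mul_mem_sup hy ?_
      rcases (hker _).mp h3 with h5 | h5
      · rw [h5]; exact one_mem _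
      · rw [h5]; exact mem_zpowers c)
    (fun i u hu hf => by
      refine h.fix i _ hu fun t ht htv => ?_
      rw [← hT'] at ht
      obtain ⟨t, ht, rfl⟩ := ht
      have h1 := hf t ht fun v hv => hcommlift t ht v (htv _ hv)
      rw [← map_mul, h1, map_mul])
    (fun u hu hf => by
      rw [← hker]
      refine h.fixT _ hu fun t ht => ?_
      rw [← hT'] at ht
      obtain ⟨t, ht, rfl⟩ := ht
      rw [← map_mul, hf t ht, map_mul])
    (fun i => by
      obtain ⟨M, h1, h2, h3, h4⟩ := hs i L π c hd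
      exact ⟨M, h1, h2, h3, fun t ht m hm => h4 t (hT'T t ht) m hm⟩)
  refine Ctr.false_of_compl hd.toCtr (P := U.comap π) (P₁ := K) hcP ?_ hcK fun x hx => ?_
  · rw [Subgroup.index_comap_of_surjective _ hd.surj]
    exact h.idx
  · rcases hK x hx with h1 | h1
    · exact Or.inl h1
    · right
      rwa [hd.cen x]

end Cfsg.Agent.KFacts.Mult.WeightsTwo

end
end

-- part: KFacts/Mult/RGDW
section
/-!
# No double covers: groups with a root group datum in characteristic 2

* `noDouble_of_rgd`: from torus weights and splittings of the preimages of the root groups;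
* `AbPre V`: the preimage of `V` in every double cover is commutative; invariance under conjugation;
  `AbPre.of_le_commutator`.
-/

set_option autoImplicit false
set_option linter.unusedSectionVars false

namespace Cfsg.Agent.KFacts.Mult.RGDW

open Subgroup Cfsg.Agent.KFacts.MulDef Cfsg.Agent.KFacts.MulTwo Cfsg.Agent.KFacts.Mult.WeightsTwo
open CoxeterSystem Cfsg.Agent.ChevalleyStructure.CoxeterGeom Cfsg.Agent.Tits.Roots Cfsg.Agent.Tits.Core
  Cfsg.Agent.Tits.Exchange Cfsg.Agent.Nodes.Reps Cfsg.Agent.Nodes.BNOf Cfsg.Agent.Nodes.StabComb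
  Cfsg.Agent.Nodes.Bruhat Cfsg.Agent.Nodes.OppDec Cfsg.Agent.Nodes.LeviDec Cfsg.Agent.Nodes.NormalForm
open scoped commutatorElement

universe u v w

/-- The preimage of `V` in every double cover is commutative. -/
def AbPre {X : Type w} [Group X] (V : Subgroup X) : Prop :=
  ∀ (L : Type) [Group L] [Finite L] (π : L →* X) (c : L), Dbl π c → ∀ x y : L, π x ∈ V → π y ∈ V → x * y = y * x

theorem AbPre.of_le_commutator {X : Type w} [Group X] {V : Subgroup X}
    (h : V ≤ ⁅centralizer (V : Set X), centralizer (V : Set X)⁆) : AbPre V := by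
  intro L _ _ π c hd x y hx hy
  exact comm_of_le_commutator hd h hx hy

theorem AbPre.mono {X : Type w} [Group X] {V W : Subgroup X} (h : AbPre W) (hVW : V ≤ W) : AbPre V :=
  fun L _ _ π c hd x y hx hy => h L π c hd x y (hVW hx) (hVW hy)

theorem AbPre.conj {X : Type w} [Group X] {V W : Subgroup X} (h : AbPre V) (g : X)
    (hW : ∀ x ∈ W, g⁻¹ * x * g ∈ V) : AbPre W := by
  intro L _ _ π c hd x y hx hy
  obtain ⟨g', rfl⟩ := hd.surj g
  have h1 := h L π c hd (g'⁻¹ * x * g') (g'⁻¹ * y * g') (by simpa using hW _ hx) (by simpa using hW _ hy)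
  have h2 : g' * (g'⁻¹ * x * g' * (g'⁻¹ * y * g')) * g'⁻¹ = g' * (g'⁻¹ * y * g' * (g'⁻¹ * x * g')) * g'⁻¹ := by
    rw [h1]
  have e1 : g' * (g'⁻¹ * x * g' * (g'⁻¹ * y * g')) * g'⁻¹ = x * y := by group
  have e2 : g' * (g'⁻¹ * y * g' * (g'⁻¹ * x * g')) * g'⁻¹ = y * x := by group
  rw [e1, e2] at h2
  exact h2

variable {I W Y : Type*} [Fintype I] [DecidableEq I] [Group W] [Group Y] {M : CoxeterMatrix I}
  {cs : CoxeterSystem M W} {A : I → I → ℤ} {h : IsCartan M A} {T : Subgroup Y} {n : I → Y}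
  {X : (I → ℤ) → Subgroup Y}

/-- `AbPre` for the simple roots gives it for all roots. -/
theorem abPre_all {r : ℕ} (R : RGD cs h r T n X) (ha : ∀ i, AbPre (X (sr i))) {x : I → ℤ}
    (hx : IsRoot cs h x) : AbPre (X x) := by
  obtain ⟨w, i, rfl⟩ := hx
  obtain ⟨g, hg⟩ := exists_rp cs R.nsys w
  refine (ha i).conj g fun y hy => ?_
  have := R.conj_mem' hg ⟨w, i, rfl⟩ hy
  rwa [rep_inv_apply] at this

theorem GG_eq_top_of_G1 (hG : Cfsg.Agent.Nodes.RGDLib.G1 cs h X = ⊤) : GG cs h T X = ⊤ := by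
  rw [eq_top_iff, ← hG]
  exact le_sup_right

/-- **No double covers from a root group datum of characteristic 2.** -/
theorem noDouble_of_rgd [Finite W] [Finite Y] (R : RGD cs h 2 T n X) (hG : GG cs h T X = ⊤) {p : ℕ}
    [Fact p.Prime] (hp : Odd p) {T' : Subgroup Y} (hT' : T' ≤ T) (hTp : IsPGroup p T')
    (h1 : ∀ x ∈ RGD.Pos cs h, ∀ y ∈ RGD.Pos cs h, x ≠ y →
      ∃ t ∈ T', (∀ v ∈ X x, t * v = v * t) ∧ ∀ v ∈ X y, t * v = v * t → v = 1)
    (h2 : ∀ x ∈ RGD.Pos cs h, ∃ t ∈ T', ∀ v ∈ X x, t * v = v * t → v = 1)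
    (hs : ∀ x ∈ RGD.Pos cs h, Spl T' (X x)) : NoDouble Y := by
  have : Fact (Nat.Prime 2) := ⟨Nat.prime_two⟩
  have hW : WHyp p (RGD.Sup X (RGD.Pos cs h)) T' (fun x : RGD.Pos cs h => X x.1) :=
    { pg := R.isPGroup_Upos
      idx := by
        obtain ⟨P, hP⟩ := R.isPGroup_Upos.exists_le_sylow
        have h3 := eq_U_of_isPGroup R P.isPGroup' hP (by rw [hG]; exact le_top)
        rw [← h3]
        exact P.not_dvd_index
      tp := hTp
      odd := hp
      UT := fun t ht x hx => (mem_normalizer_iff.1 (R.T_le_normalizer_U (hT' ht)) x).1 hx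
      VU := fun x => RGD.le_Sup x.2
      VT := fun x t ht v hv => by
        rw [← R.tor x.1 x.2.1 t (hT' ht)]
        exact conj_mem_cj.2 hv
      gen := le_rfl
      fix := by
        intro x u hu hc
        have h3 : u ∈ RGD.Sup X (RGD.Pos cs h) ⊓
            centralizer ({t | t ∈ T' ∧ ∀ v ∈ X x.1, t * v = v * t} : Set Y) :=
          ⟨hu, mem_centralizer_iff.2 fun t ht => hc t ht.1 ht.2⟩
        rw [centralizer_U R (fun t ht => hT' ht.1)] at h3
        refine (RGD.Sup_le fun y hy => ?_ : RGD.Sup (fun y => X y ⊓ centralizer _) (RGD.Pos cs h) ≤ X x.1) h3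
        by_cases hxy : x.1 = y
        · subst hxy; exact inf_le_left
        · obtain ⟨t, ht, ht1, ht2⟩ := h1 x.1 x.2 y hy hxy
          rintro v ⟨hv, hvc⟩
          rw [ht2 v hv (mem_centralizer_iff.1 hvc t ⟨ht, ht1⟩)]
          exact one_mem _
      fixT := by
        intro u hu hc
        have h3 : u ∈ RGD.Sup X (RGD.Pos cs h) ⊓ centralizer (T' : Set Y) :=
          ⟨hu, mem_centralizer_iff.2 fun t ht => hc t ht⟩
        rw [centralizer_U R hT'] at h3
        have h4 : RGD.Sup (fun y => X y ⊓ centralizer (T' : Set Y)) (RGD.Pos cs h) ≤ ⊥ := by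
          refine RGD.Sup_le fun y hy => ?_
          obtain ⟨t, ht, ht2⟩ := h2 y hy
          rintro v ⟨hv, hvc⟩
          rw [ht2 v hv (mem_centralizer_iff.1 hvc t ht)]
          exact one_mem _
        exact mem_bot.1 (h4 h3) }
  exact hW.noDouble fun x => hs x.1 x.2

/-- The version with commutative preimages. -/
theorem noDouble_of_abPre [Finite W] [Finite Y] (R : RGD cs h 2 T n X) (hG : GG cs h T X = ⊤) {p : ℕ}
    [Fact p.Prime] (hp : Odd p) {T' : Subgroup Y} (hT' : T' ≤ T) (hTp : IsPGroup p T')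
    (h1 : ∀ x ∈ RGD.Pos cs h, ∀ y ∈ RGD.Pos cs h, x ≠ y →
      ∃ t ∈ T', (∀ v ∈ X x, t * v = v * t) ∧ ∀ v ∈ X y, t * v = v * t → v = 1)
    (h2 : ∀ x ∈ RGD.Pos cs h, ∃ t ∈ T', ∀ v ∈ X x, t * v = v * t → v = 1)
    (ha : ∀ i, AbPre (X (sr i))) : NoDouble Y := by
  refine noDouble_of_rgd R hG hp hT' hTp h1 h2 fun x hx => ?_
  refine Spl.of_comm hp hTp (R.pgrp' hx.1) ?_ ?_ (abPre_all R ha hx.1)
  · intro t ht v hv
    rw [← R.tor x hx.1 t (hT' ht)]
    exact conj_mem_cj.2 hv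
  · intro v hv hc
    obtain ⟨t, ht, ht2⟩ := h2 x hx
    exact ht2 v hv (hc t ht)

/-! ### Separating torus elements -/

/-- Some element of `T'` centralises `V` and acts fixed point freely on `V'`. -/
def Sep (T' V V' : Subgroup Y) : Prop :=
  ∃ t ∈ T', (∀ v ∈ V, t * v = v * t) ∧ ∀ v ∈ V', t * v = v * t → v = 1

/-- Some element of `T'` acts fixed point freely on `V`. -/
def Free (T' V : Subgroup Y) : Prop := ∃ t ∈ T', ∀ v ∈ V, t * v = v * t → v = 1

theorem comm_conj_iff (g t v : Y) : g * t * g⁻¹ * v = v * (g * t * g⁻¹) ↔ t * (g⁻¹ * v * g) = g⁻¹ * v * g * t := by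
  constructor
  · intro h1
    have e1 : t * (g⁻¹ * v * g) = g⁻¹ * (g * t * g⁻¹ * v) * g := by group
    rw [e1, h1]; group
  · intro h1
    have e1 : g * t * g⁻¹ * v = g * (t * (g⁻¹ * v * g)) * g⁻¹ := by group
    rw [e1, h1]; group

theorem Sep.conj {T' V V' V₁ V₁' : Subgroup Y} (hs : Sep T' V V') {g : Y}
    (hg : ∀ t ∈ T', g * t * g⁻¹ ∈ T') (h1 : ∀ v ∈ V₁, g⁻¹ * v * g ∈ V) (h2 : ∀ v ∈ V₁', g⁻¹ * v * g ∈ V') :
    Sep T' V₁ V₁' := by
  obtain ⟨t, ht, ha, hb⟩ := hs
  refine ⟨g * t * g⁻¹, hg t ht, fun v hv => (comm_conj_iff g t v).2 (ha _ (h1 v hv)), fun v hv hc => ?_⟩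
  have h3 := hb _ (h2 v hv) ((comm_conj_iff g t v).1 hc)
  have e : v = g * (g⁻¹ * v * g) * g⁻¹ := by group
  rw [e, h3]; group

theorem Free.conj {T' V V₁ : Subgroup Y} (hs : Free T' V) {g : Y}
    (hg : ∀ t ∈ T', g * t * g⁻¹ ∈ T') (h1 : ∀ v ∈ V₁, g⁻¹ * v * g ∈ V) : Free T' V₁ := by
  obtain ⟨t, ht, hb⟩ := hs
  refine ⟨g * t * g⁻¹, hg t ht, fun v hv hc => ?_⟩
  have h3 := hb _ (h1 v hv) ((comm_conj_iff g t v).1 hc)
  have e : v = g * (g⁻¹ * v * g) * g⁻¹ := by group
  rw [e, h3]; group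

/-- A lift of `w` normalising `T'`. -/
theorem exists_lift_normalizer {r : ℕ} (R : RGD cs h r T n X) {T' : Subgroup Y}
    (hN : ∀ i, n i ∈ normalizer (T' : Set Y)) (w : W) :
    ∃ g ∈ normalizer (T' : Set Y), Rp cs R.nsys w g := by
  obtain ⟨g, hgc, hg⟩ := exists_rp_closure (cs := cs) (hN := R.nsys) w
  refine ⟨g, (Subgroup.closure_le _).2 ?_ hgc, hg⟩
  rintro _ ⟨i, rfl⟩
  exact hN i

theorem sep_all {r : ℕ} (R : RGD cs h r T n X) {T' : Subgroup Y} (hN : ∀ i, n i ∈ normalizer (T' : Set Y))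
    (h1 : ∀ i y, IsRoot cs h y → y ≠ sr i → y ≠ -sr i → Sep T' (X (sr i)) (X y)) {x y : I → ℤ}
    (hx : IsRoot cs h x) (hy : IsRoot cs h y) (hxy : y ≠ x) (hxy' : y ≠ -x) : Sep T' (X x) (X y) := by
  obtain ⟨w, i, rfl⟩ := hx
  obtain ⟨g, hgN, hg⟩ := exists_lift_normalizer R hN w
  have h2 : rep cs h w (rep cs h w⁻¹ y) = y := by rw [← rep_mul_apply, mul_inv_cancel, map_one]; rfl
  refine (h1 i (rep cs h w⁻¹ y) (hy.act _) (fun he => hxy ?_) (fun he => hxy' ?_)).conj (g := g)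
    (fun t ht => (mem_normalizer_iff.1 hgN t).1 ht) (fun v hv => ?_) fun v hv => R.conj_mem' hg hy hv
  · rw [← h2, he]
  · rw [← h2, he, map_neg]
  · have := R.conj_mem' hg ⟨w, i, rfl⟩ hv
    rwa [rep_inv_apply] at this

theorem free_all {r : ℕ} (R : RGD cs h r T n X) {T' : Subgroup Y} (hN : ∀ i, n i ∈ normalizer (T' : Set Y))
    (h1 : ∀ i, Free T' (X (sr i))) {x : I → ℤ} (hx : IsRoot cs h x) : Free T' (X x) := by
  obtain ⟨w, i, rfl⟩ := hx
  obtain ⟨g, hgN, hg⟩ := exists_lift_normalizer R hN w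
  refine (h1 i).conj (g := g) (fun t ht => (mem_normalizer_iff.1 hgN t).1 ht) (fun v hv => ?_)
  have := R.conj_mem' hg ⟨w, i, rfl⟩ hv
  rwa [rep_inv_apply] at this

theorem ne_neg_of_pos {x y : I → ℤ} (hx : x ∈ RGD.Pos cs h) (hy : y ∈ RGD.Pos cs h) : y ≠ -x := by
  rintro rfl
  exact hx.1.not_pos_neg hx.2 (neg_nonneg.1 hy.2)

/-- **No double covers, conditions on simple roots.** -/
theorem noDouble_of_simple [Finite W] [Finite Y] (R : RGD cs h 2 T n X) (hG : GG cs h T X = ⊤) {p : ℕ}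
    [Fact p.Prime] (hp : Odd p) {T' : Subgroup Y} (hT' : T' ≤ T) (hTp : IsPGroup p T')
    (hN : ∀ i, n i ∈ normalizer (T' : Set Y))
    (h1 : ∀ i y, IsRoot cs h y → y ≠ sr i → y ≠ -sr i → Sep T' (X (sr i)) (X y))
    (h2 : ∀ i, Free T' (X (sr i))) (ha : ∀ i, AbPre (X (sr i))) : NoDouble Y :=
  noDouble_of_abPre R hG hp hT' hTp
    (fun _ hx _ hy hxy => sep_all R hN h1 hx.1 hy.1 hxy.symm (ne_neg_of_pos hx hy))
    (fun _ hx => free_all R hN h2 hx.1) ha

end Cfsg.Agent.KFacts.Mult.RGDW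
end
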