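import Cfsg.Agent.KFacts.Mult.LacedRGD
import Cfsg.Agent.KFacts.ChevTwoInstE
import Cfsg.Agent.KFacts.En.Tab
import Cfsg.Agent.Nodes.RGDChev
set_option linter.all false

/-!
# `E₆(q)`, `E₇(q)`, `E₈(q)`, `q` even, have no perfect double covers (helper827)
-/

set_option autoImplicit false
set_option linter.unusedSectionVars false

namespace Cfsg.Agent.KFacts.Mult.LacedE

open CoxeterSystem Cfsg.Agent.ChevalleyStructure.CoxeterGeom Cfsg.Agent.Tits.Roots Cfsg.Agent.Tits.Core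
  Cfsg.Agent.Tits.RootComb Cfsg.Agent.Nodes.Comb Cfsg.Agent.Nodes.Reps Cfsg.Agent.Nodes.BNOf
  Cfsg.Agent.OddHalf.SL.Index Cfsg.Agent.OddHalf.SL Cfsg.Agent.KFacts Cfsg.Agent.KFacts.Mult.Laced
  Cfsg.Agent.KFacts.Mult.LacedEnd Cfsg.Agent.KFacts.MulDef Cfsg.Agent.KFacts.Mult.LacedRGD
open Cfsg.Lie Cfsg.Agent.ChevalleyStructure.RootVecTab Cfsg.Agent.ChevalleyStructure.RootVec
  Cfsg.Agent.ChevalleyStructure.Elts Cfsg.Agent.ChevalleyStructure Cfsg.Agent.Nodes.RGDChev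
  Cfsg.Agent.ChevalleyStructure.CoxeterGeomTypes

/-- `p_{k₀}` is the only simple root not orthogonal to the root `r₀`, and every root orthogonal to `r₀` forms an angle of
60 or 120 degrees with some other simple root. -/
def chkOne (D : ChevalleyDatum) (k₀ r₀ : ℕ) : Bool :=
  Nat.blt k₀ D.rank && Nat.blt r₀ D.nroots && Nat.beq (cart D k₀ r₀) 9 &&
  allLT (fun j => Nat.beq j k₀ || Nat.beq (cart D j r₀) 8) D.rank &&
  allLT (fun s => !(Nat.beq (dig (code D s) (D.rank - 1 - k₀)) 8) ||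
    anyLT (fun j => !(Nat.beq j k₀) && (Nat.beq (cart D j s) 7 || Nat.beq (cart D j s) 9)) D.rank) D.nroots

theorem chk_E6 : chkOne chevE6 1 71 = true := by decide +kernel
theorem chk_E7 : chkOne chevE7 0 125 = true := by decide +kernel
theorem chk_E8 : chkOne chevE8 7 239 = true := by decide +kernel

section

variable {D : ChevalleyDatum} {l : ℕ} {M : CoxeterMatrix (Fin l)} (hp : IsType D l M)
  {W : Type*} [Group W] (cs : CoxeterSystem M W)

include hp in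
theorem Q_of_chk {k₀ r₀ : ℕ} (hc : chkOne D k₀ r₀ = true) (h4 : ∀ i j, M i j ≠ 4) (h6 : ∀ i j, M i j ≠ 6) :
    r₀ < D.nroots ∧ Q cs hp.isCartan (vec D l r₀) := by
  have : Finite W := finite_W hp cs
  have hR := roots cs hp.isCartan h4 h6
  have hch := hp.checked
  simp only [chkOne, Bool.and_eq_true, Bool.or_eq_true, Bool.not_eq_true', allLT_iff, anyLT_iff, beq_iff, Nat.blt_eq]
    at hc
  obtain ⟨⟨⟨⟨hk, hr⟩, h9⟩, h8⟩, hs⟩ := hc
  refine ⟨hr, ?_⟩
  have hkl : k₀ < l := by rw [← hp.rank_eq]; exact hk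
  -- the form with `r₀`
  have form : ∀ x : Fin l → ℤ, Bf (cartanOf D l) (vec D l r₀) x = x ⟨k₀, hkl⟩ := by
    intro x
    unfold Bf
    rw [Finset.sum_eq_single ⟨k₀, hkl⟩]
    · rw [pairing_vec hp _ hr, cartan_eq_cart hch hk hr, h9]; norm_num
    · intro j _ hj
      have hj' : (j : ℕ) < D.rank := lt_rank hp j
      have h8' : cart D j r₀ = 8 := (h8 j hj').resolve_left fun e => hj (Fin.ext e)
      rw [pairing_vec hp _ hr, cartan_eq_cart hch hj' hr, h8']; norm_num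
    · intro h; exact absurd (Finset.mem_univ _) h
  intro s' hs' h0
  obtain ⟨s, hsn, rfl⟩ := (isRoot_iff hp cs s').1 hs'
  rw [form, vec_apply, rt_of_lt hsn hk] at h0
  have hdig : dig (code D s) (D.rank - 1 - k₀) = 8 := by omega
  obtain ⟨j, hj, hjk, hj2⟩ := (hs s hsn).resolve_left (by rw [hdig]; decide)
  have hjl : j < l := by rw [← hp.rank_eq]; exact hj
  have hjk' : j ≠ k₀ := by
    intro e
    rw [e, Nat.beq_refl] at hjk
    exact absurd hjk (by decide)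
  have hd : IsRoot cs hp.isCartan (sr (⟨j, hjl⟩ : Fin l)) := isRoot_sr _ _ _
  have e1 : Bf (cartanOf D l) (sr ⟨j, hjl⟩) (vec D l s) = D.cartan j s := by
    rw [hR.symm, bf_sr, pairing_vec hp _ hsn]
  have e2 : Bf (cartanOf D l) (sr ⟨j, hjl⟩) (vec D l r₀) = 0 := by
    rw [hR.symm, form, sr_ne (fun e => hjk' (by simpa using (congrArg Fin.val e).symm))]
  rcases hj2 with h7 | h7
  · refine ⟨-sr (⟨j, hjl⟩ : Fin l), hR.neg_mem (sr (⟨j, hjl⟩ : Fin l)) hd, ?_, ?_⟩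
    · rw [hR.neg_left, e1, cartan_eq_cart hch hj hsn, h7]; norm_num
    · rw [hR.neg_left, e2, neg_zero]
  · refine ⟨sr ⟨j, hjl⟩, hd, ?_, e2⟩
    rw [e1, cartan_eq_cart hch hj hsn, h7]; norm_num

variable {K : Type*} [Field K]

/-- the root elements in `D.group K` -/
noncomputable def eg (hD : InList D) (l : ℕ) (x : Fin l → ℤ) (t : K) : ↥(D.group K) :=
  ⟨ChevTwoInst.ev hD l x t, ChevTwoInst.ev_mem hD l x t⟩

theorem mem_X (hp : IsType D l M) (cs : CoxeterSystem M W) {x : Fin l → ℤ} (hx : IsRoot cs hp.isCartan x)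
    (g : ↥(D.group K)) : g ∈ (XV D l K x).subgroupOf (D.group K) ↔ ∃ t, g = eg hp.inList l x t := by
  obtain ⟨r, hr, rfl⟩ := (isRoot_iff hp cs x).1 hx
  rw [Subgroup.mem_subgroupOf, XV_vec hp K hr, mem_rootSubgroup_iff hp.inList]
  constructor
  · rintro ⟨t, e⟩
    refine ⟨t, Subtype.ext ?_⟩
    show (g : GL D.Idx K) = ChevTwoInst.ev hp.inList l (vec D l r) t
    rw [ChevTwoInst.ev_vec hp hr, e]
  · rintro ⟨t, e⟩
    refine ⟨t, ?_⟩
    have := congrArg (fun g : ↥(D.group K) => (g : GL D.Idx K)) e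
    have e2 : (eg hp.inList l (vec D l r) t : GL D.Idx K) = ChevTwoInst.ev hp.inList l (vec D l r) t := rfl
    rw [show (g : GL D.Idx K) = _ from this, e2, ChevTwoInst.ev_vec hp hr]

/-- **No perfect double cover** of `D.group K`, `K` finite of characteristic 2, from the check `chkOne`. -/
theorem noDouble_of_chk [Finite K] (h2 : (2 : K) = 0) (hp : IsType D l M) (hOK : ChevTwoInst.TwoOK D) {k₀ r₀ : ℕ}
    (hc : chkOne D k₀ r₀ = true) (h4 : ∀ i j, M i j ≠ 4) (h6 : ∀ i j, M i j ≠ 6) (h3 : 3 ≤ l)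
    (hirr : ∀ J : Set (Fin l), J.Nonempty → Jᶜ.Nonempty → ∃ i ∈ J, ∃ j ∈ Jᶜ, M i j ≠ 2) :
    NoDouble ↥(D.group K) := by
  have : Fact (Nat.Prime 2) := ⟨Nat.prime_two⟩
  have : CharP K 2 := by
    rcases CharP.exists K with ⟨p, hcp⟩
    have h5 : ((2 : ℕ) : K) = 0 := by exact_mod_cast h2
    have h6 := (CharP.cast_eq_zero_iff K p 2).1 h5
    have hpp : p.Prime := (CharP.char_is_prime_or_zero K p).resolve_right (by rintro rfl; simp at h6)
    have : p = 2 := (Nat.prime_dvd_prime_iff_eq hpp Nat.prime_two).1 h6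
    rwa [this] at hcp
  let cs : CoxeterSystem M M.Group := M.toCoxeterSystem
  have : Finite M.Group := finite_W hp cs
  have two : ∀ t : K, t + t = 0 := fun t => by rw [← two_mul, h2, zero_mul]
  have hD := ChevTwoInst.data hp hOK two cs
  obtain ⟨hr, hQ⟩ := Q_of_chk hp cs hc h4 h6
  have S : Sys (Bf (cartanOf D l)) {x | IsRoot cs hp.isCartan x} (eg (K := K) hp.inList l) :=
    sys_restrict (fun _ _ => rfl) (sys h4 h6 hD)
  refine noDouble_of_root (rgd (K := K) hp cs 2) S h2 ?_ (fun x hx g => mem_X hp cs hx g) h4 h6 hirr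
    (by rw [Fintype.card_fin]; exact h3) (G1_eq_top hp cs) (isRoot_vec hp cs hr) hQ
  intro x hx t e
  exact hD.inj x hx t (congrArg (fun g : ↥(D.group K) => (g : GL D.Idx K)) e)

end

theorem not_four_E6 : ∀ i j : Fin 6, CoxeterMatrix.E₆ i j ≠ 4 := by
  intro i j; fin_cases i <;> fin_cases j <;> simp [CoxeterMatrix.E₆]
theorem not_six_E6 : ∀ i j : Fin 6, CoxeterMatrix.E₆ i j ≠ 6 := by
  intro i j; fin_cases i <;> fin_cases j <;> simp [CoxeterMatrix.E₆]
theorem not_four_E7 : ∀ i j : Fin 7, CoxeterMatrix.E₇ i j ≠ 4 := by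
  intro i j; fin_cases i <;> fin_cases j <;> simp [CoxeterMatrix.E₇]
theorem not_six_E7 : ∀ i j : Fin 7, CoxeterMatrix.E₇ i j ≠ 6 := by
  intro i j; fin_cases i <;> fin_cases j <;> simp [CoxeterMatrix.E₇]
theorem not_four_E8 : ∀ i j : Fin 8, CoxeterMatrix.E₈ i j ≠ 4 := by
  intro i j; fin_cases i <;> fin_cases j <;> simp [CoxeterMatrix.E₈]
theorem not_six_E8 : ∀ i j : Fin 8, CoxeterMatrix.E₈ i j ≠ 6 := by
  intro i j; fin_cases i <;> fin_cases j <;> simp [CoxeterMatrix.E₈]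

/-- connectedness from a spanning tree -/
theorem irr_of_tree {l : ℕ} {M : CoxeterMatrix (Fin l)} (z : Fin l) (d : Fin l → ℕ) (f : Fin l → Fin l)
    (hf : ∀ i : Fin l, i = z ∨ (d (f i) < d i ∧ M (f i) i ≠ 2)) :
    ∀ J : Set (Fin l), J.Nonempty → Jᶜ.Nonempty → ∃ i ∈ J, ∃ j ∈ Jᶜ, M i j ≠ 2 := by
  intro J hJ hJ'
  by_contra hcon
  push Not at hcon
  have key : ∀ n : ℕ, ∀ i : Fin l, d i = n → (i ∈ J ↔ z ∈ J) := by
    intro n
    induction n using Nat.strong_induction_on with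
    | _ n ih =>
      intro i hi
      rcases hf i with h0 | ⟨h1, h2⟩
      · rw [h0]
      · rw [← ih (d (f i)) (by omega) (f i) rfl]
        constructor
        · intro h3
          by_contra h4
          exact h2 (by rw [M.symmetric]; exact hcon i h3 (f i) h4)
        · intro h3
          by_contra h4
          exact h2 (hcon (f i) h3 i h4)
  obtain ⟨a, ha⟩ := hJ
  obtain ⟨b, hb⟩ := hJ'
  exact hb ((key _ b rfl).2 ((key _ a rfl).1 ha))

theorem irr_E6 : ∀ J : Set (Fin 6), J.Nonempty → Jᶜ.Nonempty → ∃ i ∈ J, ∃ j ∈ Jᶜ, CoxeterMatrix.E₆ i j ≠ 2 := by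
  refine irr_of_tree 3 ![2, 1, 1, 0, 1, 2] ![2, 3, 3, 3, 3, 4] ?_
  intro i; fin_cases i <;> simp [CoxeterMatrix.E₆]

theorem irr_E7 : ∀ J : Set (Fin 7), J.Nonempty → Jᶜ.Nonempty → ∃ i ∈ J, ∃ j ∈ Jᶜ, CoxeterMatrix.E₇ i j ≠ 2 := by
  refine irr_of_tree 3 ![2, 1, 1, 0, 1, 2, 3] ![2, 3, 3, 3, 3, 4, 5] ?_
  intro i; fin_cases i <;> simp [CoxeterMatrix.E₇]

theorem irr_E8 : ∀ J : Set (Fin 8), J.Nonempty → Jᶜ.Nonempty → ∃ i ∈ J, ∃ j ∈ Jᶜ, CoxeterMatrix.E₈ i j ≠ 2 := by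
  refine irr_of_tree 3 ![2, 1, 1, 0, 1, 2, 3, 4] ![2, 3, 3, 3, 3, 4, 5, 6] ?_
  intro i; fin_cases i <;> simp [CoxeterMatrix.E₈]

variable (K : Type*) [Field K] [Finite K]

/-- **`E₆(q)`, `q` even, has no perfect double cover.** -/
theorem noDouble_E6 (h2 : (2 : K) = 0) : NoDouble ↥(chevE6.group K) :=
  noDouble_of_chk h2 (by simp [IsType, typeList]) ChevTwoInst.twoOK_E6 chk_E6 not_four_E6 not_six_E6
    (by norm_num) irr_E6

/-- **`E₇(q)`, `q` even, has no perfect double cover.** -/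
theorem noDouble_E7 (h2 : (2 : K) = 0) : NoDouble ↥(chevE7.group K) :=
  noDouble_of_chk h2 (by simp [IsType, typeList]) ChevTwoInst.twoOK_E7 chk_E7 not_four_E7 not_six_E7
    (by norm_num) irr_E7

/-- **`E₈(q)`, `q` even, has no perfect double cover.** -/
theorem noDouble_E8 (h2 : (2 : K) = 0) : NoDouble ↥(chevE8.group K) :=
  noDouble_of_chk h2 (by simp [IsType, typeList]) ChevTwoInst.twoOK_E8 chk_E8 not_four_E8 not_six_E8
    (by norm_num) irr_E8

end Cfsg.Agent.KFacts.Mult.LacedE
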