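import Cfsg.Agent.KFacts.OddLift.Frat
import Cfsg.Agent.StdSz.CoverC
set_option linter.all false

-- merged: Cfsg.Agent.KFacts.Mult.Swap
section

/-!
# Exponent two and separation for central 2-extensions

`f : K → X` surjective, `K` finite and perfect, `ker f` a central 2-group.

* `sq_eq_one`: if in every perfect double cover `π : L → X` there are `n`, `x` with `π (x * x) = 1` and
  `n * x * n⁻¹ = c * x`, then `ker f` has exponent dividing two;
* `card_dvd_two`: if moreover `ker f` is cyclic, its order divides two;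
* `separate`: if `ker f` has exponent dividing two, every `w ≠ 1` in `ker f` survives in a double cover below `f`.
-/

set_option autoImplicit false
set_option linter.style.haveILetI false

namespace Cfsg.Agent.KFacts.Mult.Swap

open Subgroup Cfsg.Agent.KFacts.MulTwo Cfsg.Agent.KFacts.MulDef Cfsg.Agent.KFacts.OddLift
open scoped commutatorElement

universe u v

section

variable {X : Type v} [Group X] {K : Type u} [Group K] [Finite K]
  (hK : commutator K = ⊤) {f : K →* X} (hf : Function.Surjective f) (hZ : f.ker ≤ center K)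
  (h2 : IsPGroup 2 f.ker)
include hK hf hZ h2

omit [Finite K] hK hf h2 in
theorem comm_ker {a : K} (ha : f a = 1) (b : K) : a * b = b * a := (mem_center_iff.1 (hZ ha) b).symm

/-- **Exponent two.** -/
theorem sq_eq_one (h : ∀ (L : Type u) [Group L] [Finite L] (π : L →* X) (c : L), Dbl π c →
      ∃ n x : L, π (x * x) = 1 ∧ n * x * n⁻¹ = c * x) : ∀ z, f z = 1 → z * z = 1 := by
  let N : Subgroup K :=
    { carrier := {z | f z = 1 ∧ z * z = 1}
      one_mem' := ⟨map_one f, one_mul 1⟩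
      mul_mem' := by
        rintro a b ⟨ha, ha2⟩ ⟨hb, hb2⟩
        refine ⟨by rw [map_mul, ha, hb, mul_one], ?_⟩
        calc a * b * (a * b) = a * (b * a) * b := by group
          _ = a * (a * b) * b := by rw [comm_ker hZ hb a]
          _ = a * a * (b * b) := by group
          _ = 1 := by rw [ha2, hb2, one_mul]
      inv_mem' := by
        rintro a ⟨ha, ha2⟩
        exact ⟨by rw [map_inv, ha, inv_one], by rw [← mul_inv_rev, ha2, inv_one]⟩ }
  have hN : N ≤ f.ker := fun z hz => hz.1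
  have key : f.ker = N := by
    refine Frat.ker_eq hK hf hZ h2 hN ?_
    intro L _ _ q π c hq hπ hNq hd
    obtain ⟨n', x', hx', hnx⟩ := h L π c hd
    obtain ⟨n, rfl⟩ := hq n'
    obtain ⟨x, rfl⟩ := hq x'
    have hqu : q ⁅x, n⁆ = c := by
      rw [map_commutatorElement, commutatorElement_def]
      have h3 : q x * q n * (q x)⁻¹ * (q n)⁻¹ = (q n * q x * (q n)⁻¹ * (q x)⁻¹)⁻¹ := by group
      rw [h3, hnx, mul_inv_cancel_right, inv_eq_of_mul_eq_one_left hd.sq]
    have hfq : ∀ y, π (q y) = f y := fun y => by rw [← hπ]; rfl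
    have hu : f ⁅x, n⁆ = 1 := by
      rw [← hfq, hqu]
      exact (hd.ker c).2 (Or.inr rfl)
    have hsq : ⁅x, n⁆ * ⁅x, n⁆ = 1 := by
      refine noFour (comm_ker hZ (a := x * x) ?_) (comm_ker hZ hu)
      rw [← hfq, map_mul]
      exact hx'
    have hk : ⁅x, n⁆ ∈ q.ker := hNq ⟨hu, hsq⟩
    rw [MonoidHom.mem_ker, hqu] at hk
    exact hd.ne hk
  intro z hz
  have hz' : z ∈ N := by rw [← key]; exact hz
  exact hz'.2

omit [Finite K] hK hf hZ h2 in
/-- A cyclic kernel of exponent two. -/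
theorem card_dvd_two (hc : IsCyclic f.ker) (hel : ∀ z, f z = 1 → z * z = 1) : Nat.card f.ker ∣ 2 := by
  obtain ⟨g, hg⟩ := hc.exists_generator
  rw [← orderOf_eq_card_of_forall_mem_zpowers hg]
  refine orderOf_dvd_of_pow_eq_one ?_
  rw [pow_two]
  exact Subtype.ext (hel g g.2)

/-- **Separation.** -/
theorem separate (hel : ∀ z, f z = 1 → z * z = 1) {w : K} (hw : f w = 1) (hw1 : w ≠ 1) :
    ∃ (L : Type u) (_ : Group L) (_ : Finite L) (q : K →* L) (π : L →* X) (c : L),
      Function.Surjective q ∧ π.comp q = f ∧ Dbl π c ∧ q w = c := by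
  classical
  let S : Set (Subgroup K) := {N | N ≤ f.ker ∧ w ∉ N}
  have hS : (⊥ : Subgroup K) ∈ S := ⟨bot_le, fun h => hw1 (mem_bot.1 h)⟩
  obtain ⟨N, hN⟩ := (Set.toFinite S).exists_maximal ⟨_, hS⟩
  have hN1 : N ≤ f.ker := hN.prop.1
  have hN2 : w ∉ N := hN.prop.2
  have hne : N ≠ f.ker := fun e => hN2 (by rw [e]; exact hw)
  have hcov : ∀ z, f z = 1 → z ∈ N ∨ w * z ∈ N := by
    intro z hz
    by_contra hcon
    push Not at hcon
    have hzz := hel z hz
    let N' : Subgroup K :=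
      { carrier := {y | y ∈ N ∨ z * y ∈ N}
        one_mem' := Or.inl (one_mem _)
        mul_mem' := by
          rintro a b (ha | ha) (hb | hb)
          · exact Or.inl (mul_mem ha hb)
          · right
            have : z * (a * b) = a * (z * b) := by rw [← mul_assoc, comm_ker hZ hz a, mul_assoc]
            rw [this]; exact mul_mem ha hb
          · right
            rw [← mul_assoc]; exact mul_mem ha hb
          · left
            have : a * b = (z * a) * (z * b) := by
              calc a * b = (z * z) * (a * b) := by rw [hzz, one_mul]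
                _ = z * (z * a) * b := by group
                _ = z * (a * z) * b := by rw [comm_ker hZ hz a]
                _ = _ := by group
            rw [this]; exact mul_mem ha hb
        inv_mem' := by
          rintro a (ha | ha)
          · exact Or.inl (inv_mem ha)
          · right
            have : z * a⁻¹ = (z * a)⁻¹ := by
              rw [mul_inv_rev, inv_eq_of_mul_eq_one_left hzz]
              exact comm_ker hZ hz a⁻¹
            rw [this]; exact inv_mem ha }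
    have hle : N ≤ N' := fun y hy => Or.inl hy
    have hzN' : z ∈ N' := Or.inr (by rw [hzz]; exact one_mem _)
    have hN'k : N' ≤ f.ker := by
      rintro y (hy | hy)
      · exact hN1 hy
      · have h3 : f (z * y) = 1 := hN1 hy
        rw [map_mul, hz, one_mul] at h3
        exact h3
    have hwN' : w ∈ N' := by
      by_contra hw'
      exact hcon.1 (hN.le_of_ge ⟨hN'k, hw'⟩ hle hzN')
    rcases hwN' with h3 | h3
    · exact hN2 h3
    · apply hcon.2
      rw [comm_ker hZ hw z]; exact h3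
  obtain ⟨L, iL, fL, q, π, c, hq, hπ, hNq, hd⟩ := Frat.exists_dbl_over hK hf hZ h2 hN1 hne
  refine ⟨L, iL, fL, q, π, c, hq, hπ, hd, ?_⟩
  have hfq : ∀ y, π (q y) = f y := fun y => by rw [← hπ]; rfl
  have hqw : π (q w) = 1 := by rw [hfq, hw]
  rcases (hd.ker _).1 hqw with h3 | h3
  · exfalso
    obtain ⟨y, hy⟩ := hq c
    have hfy : f y = 1 := by rw [← hfq, hy]; exact (hd.ker c).2 (Or.inr rfl)
    rcases hcov y hfy with h4 | h4
    · have : q y = 1 := hNq h4
      rw [hy] at this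
      exact hd.ne this
    · have : q (w * y) = 1 := hNq h4
      rw [map_mul, h3, one_mul, hy] at this
      exact hd.ne this
  · exact h3

end

/-- A cyclic kernel has order at most two. -/
theorem card_ker_dvd_two {X : Type v} [Group X] {K : Type u} [Group K] [Finite K]
    (hK : commutator K = ⊤) {f : K →* X} (hf : Function.Surjective f) (hZ : f.ker ≤ center K)
    (h2 : IsPGroup 2 f.ker) (hc : IsCyclic f.ker)
    (h : ∀ (L : Type u) [Group L] [Finite L] (π : L →* X) (c : L), Dbl π c →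
      ∃ n x : L, π (x * x) = 1 ∧ n * x * n⁻¹ = c * x) : Nat.card f.ker ∣ 2 :=
  card_dvd_two hc (sq_eq_one hK hf hZ h2 h)

end Cfsg.Agent.KFacts.Mult.Swap

end

-- merged: Cfsg.Agent.KFacts.Mult.SzEight
section

/-!
# The 2-part of the Schur multiplier of `Sz(8)`

`K` finite and perfect, `f : K → Sz(8)` surjective, `ker f` a central 2-group.  Then `ker f` is elementary abelian of
order dividing four (`ker`); the same for the centre of a quasisimple group (`center_elem`), and a cyclic centre has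
order dividing two (`center_cyc`).

The commutators of lifts of `p a 0` and `p 0 c` give a biadditive torus-invariant map `G : F × F → ker f`, hence
`G a c = G 1 (a⁻¹ ^ (1 + θ) * c)`; its values generate `ker f`, and `G 1 1 = 1` because `p 1 0 ^ 2 = p 0 1`.
-/

set_option autoImplicit false
set_option linter.style.haveILetI false

namespace Cfsg.Agent.KFacts.Mult.SzEight

open Subgroup Cfsg.Agent Cfsg.Agent.StdSz Cfsg.Agent.StdSz.FormAlg Cfsg.Agent.StdSz.BorelCoord
open Cfsg.Agent.StdSz.CoverA Cfsg.Agent.StdSz.CoverC Cfsg.Agent.StdSz.EquivMaps Cfsg.Agent.StdSz.SzMaps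
open Cfsg.Agent.LieRecognition Cfsg.Agent.KFacts.MulTwo Cfsg.Agent.KFacts.MulDef
open scoped commutatorElement

universe u v

/-! ### Double covers of `Sz(q)` -/

section Dbl

variable {F : Type v} [Field F] [Fintype F] {m : ℕ}

/-- a Sylow 2-subgroup over the standard one -/
theorem exists_sylow {A : Type u} [Group A] [Finite A] (hm : 1 ≤ m) (hF : Fintype.card F = 2 ^ (2 * m + 1))
    (π : A →* ↥(Cfsg.Lie.Sz F (2 ^ (m + 1)))) (hs : Function.Surjective π)
    (hcen : ∀ x, π x = 1 → ∀ y, x * y = y * x) :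
    ∃ P : Subgroup A, Odd P.index ∧
      (∀ x, x ∈ P ↔ (∃ a b, π x = (szData hF).p a b) ∧ ∃ k : ℕ, x ^ 2 ^ k = 1) ∧
      ∀ a b, ∃ x ∈ P, π x = (szData hF).p a b := by
  classical
  have := EquivMaps.charP_two hF
  have : Fact (Nat.Prime 2) := ⟨Nat.prime_two⟩
  let C : Data m F ↥(Cfsg.Lie.Sz F (2 ^ (m + 1))) := szData hF
  let R0 : ThreePrime.SzRel.Rel ↥(Cfsg.Lie.Sz F (2 ^ (m + 1))) F :=
    ThreePrime.SzRel.ofGood (SzMatrix.good hF)
  have hT0 : ∀ x, x ∈ R0.T ↔ ∃ a b, x = C.p a b := by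
    intro x
    constructor
    · rintro ⟨a, b, rfl⟩
      refine ⟨a, b + a * SzMatrix.theta hF a, ?_⟩
      show (SzMatrix.good hF).u a b = (SzMatrix.good hF).u a _
      rw [add_assoc, CharTwo.add_self_eq_zero, add_zero]
    · rintro ⟨a, b, rfl⟩
      exact ⟨a, b + a * SzMatrix.theta hF a, rfl⟩
  obtain ⟨Sy, hSy⟩ := R0.exists_sylow_eq hm hF
  have hT0odd : Odd R0.T.index := by
    rw [← hSy, ← Nat.not_even_iff_odd, even_iff_two_dvd]
    exact Sy.not_dvd_index
  obtain ⟨P, -, Podd, Pmem, Psurj⟩ := exists_sylow_over π hs hcen R0.T R0.isPGroup hT0odd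
  refine ⟨P, Podd, fun x => ?_, fun a b => Psurj _ ((hT0 _).mpr ⟨a, b, rfl⟩)⟩
  rw [Pmem, hT0]

/-- the data of `StdSz/CoverA.lean` for a double cover, and the main structure theorem -/
theorem dbl_main (hm : 1 ≤ m) (hF : Fintype.card F = 2 ^ (2 * m + 1)) {L : Type u} [Group L] [Finite L]
    {π : L →* ↥(Cfsg.Lie.Sz F (2 ^ (m + 1)))} {c : L} (hd : Dbl π c) :
    ∃ (P : Subgroup L) (zh : F → L), Cov (szData hF) π P c ∧ Cov.IsZh (szData hF) π P zh ∧
      (∀ a b, ∃ x ∈ P, π x = (szData hF).p a b) ∧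
      ∀ x ∈ P, ∀ a b, π x = (szData hF).p a b → a ≠ 0 → ∃ w, ⁅x, zh w⁆ = c := by
  have := EquivMaps.charP_two hF
  have hcen : ∀ x, π x = 1 → ∀ y, x * y = y * x := by
    intro x hx y
    rcases (hd.ker x).1 hx with rfl | rfl
    · rw [one_mul, mul_one]
    · exact hd.cen y
  obtain ⟨P, hodd, hmem, hlift⟩ := exists_sylow hm hF π hd.surj hcen
  have hπc : π c = 1 := (hd.ker c).2 (Or.inr rfl)
  have hcP : c ∈ P := (hmem c).2 ⟨⟨0, 0, by rw [hπc, (szData hF).p_zero]⟩, 1, by rw [pow_one, pow_two, hd.sq]⟩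
  have K : Cov (szData hF) π P c :=
    { cen := hcen
      to_p := fun x hx => ((hmem x).1 hx).1
      from_p := hlift
      tor := fun _ => hd.surj _
      tor_P := by
        intro g l hg x hx
        obtain ⟨⟨a, b, hab⟩, k, hk⟩ := (hmem x).mp hx
        refine (hmem _).mpr ⟨?_, k, by rw [conj_pow, hk, mul_one, mul_inv_cancel]⟩
        rw [map_mul, map_mul, map_inv, hg, hab, (szData hF).h_p]
        exact ⟨_, _, rfl⟩
      t_mem := hcP
      t_one := hd.ne
      t_sq := hd.sq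
      t_ker := hπc
      uniq := fun x _ hx _ => (hd.ker x).1 hx }
  have hcom : (⟨c, K.t_mem⟩ : P) ∈ commutator P :=
    mem_commutator_of_central P hodd c K.t_mem hd.cen hd.sq (by rw [hd.perf]; exact Subgroup.mem_top _)
  obtain ⟨zh, Z, -, h1, -⟩ := K.main hm hF hcom
  exact ⟨P, zh, K, Z, hlift, h1⟩

/-- the swap in a double cover -/
theorem dbl_swap (hm : 1 ≤ m) (hF : Fintype.card F = 2 ^ (2 * m + 1)) {L : Type u} [Group L] [Finite L]
    {π : L →* ↥(Cfsg.Lie.Sz F (2 ^ (m + 1)))} {c : L} (hd : Dbl π c) :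
    ∃ n x : L, π (x * x) = 1 ∧ n * x * n⁻¹ = c * x := by
  have := EquivMaps.charP_two hF
  obtain ⟨P, zh, -, Z, hl, h1⟩ := dbl_main hm hF hd
  obtain ⟨x, hx, hxp⟩ := hl 1 0
  obtain ⟨w, hw⟩ := h1 x hx 1 0 hxp one_ne_zero
  refine ⟨x, zh w, by rw [Z.sq, map_one], ?_⟩
  rw [← hw, commutatorElement_def]
  group

end Dbl

/-! ### Commutators modulo a central kernel -/

section Cen

variable {A : Type*} [Group A] {S : Type*} [Group S] {π : A →* S} (cen : ∀ x, π x = 1 → ∀ y, x * y = y * x)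
include cen

theorem cl {x y z : A} (h : π ⁅y, z⁆ = 1) : ⁅x * y, z⁆ = ⁅x, z⁆ * ⁅y, z⁆ := by
  have h1 : ⁅x * y, z⁆ = (x * ⁅y, z⁆) * x⁻¹ * ⁅x, z⁆ := by
    simp only [commutatorElement_def]; group
  rw [h1, ← cen _ h, mul_inv_cancel_right, cen _ h]

theorem cr {x y z : A} (h : π ⁅x, z⁆ = 1) : ⁅x, y * z⁆ = ⁅x, y⁆ * ⁅x, z⁆ := by
  have h1 : ⁅x, y * z⁆ = ⁅x, y⁆ * ((y * ⁅x, z⁆) * y⁻¹) := by
    simp only [commutatorElement_def]; group
  rw [h1, ← cen _ h, mul_inv_cancel_right]

theorem comm_one_of_ker {x : A} (h : π x = 1) (y : A) : ⁅x, y⁆ = 1 := by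
  rw [commutatorElement_eq_one_iff_mul_comm]; exact cen x h y

theorem comm_one_of_ker' {x : A} (h : π x = 1) (y : A) : ⁅y, x⁆ = 1 := by
  rw [commutatorElement_eq_one_iff_mul_comm]; exact (cen x h y).symm

/-- commutators depend only on the images. -/
theorem comm_eq {x x' y y' : A} (hx : π x = π x') (hy : π y = π y') : ⁅x, y⁆ = ⁅x', y'⁆ := by
  have h1 : π (x'⁻¹ * x) = 1 := by rw [map_mul, map_inv, hx, inv_mul_cancel]
  have h2 : π (y'⁻¹ * y) = 1 := by rw [map_mul, map_inv, hy, inv_mul_cancel]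
  have e1 : x = x' * (x'⁻¹ * x) := by group
  have e2 : y = y' * (y'⁻¹ * y) := by group
  rw [e1, cl cen (by rw [comm_one_of_ker cen h1, map_one]), comm_one_of_ker cen h1, mul_one, e2,
    cr cen (by rw [comm_one_of_ker' cen h2, map_one]), comm_one_of_ker' cen h2, mul_one]

end Cen

/-! ### The kernel -/

/-- **Central 2-extensions of `Sz(q)`**: elementary abelian, and for `q = 8` of order dividing four. -/
theorem ker {F : Type v} [Field F] [Fintype F] (hF : Fintype.card F = 2 ^ (2 * 1 + 1))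
    {K : Type u} [Group K] [Finite K] (hK : commutator K = ⊤) {f : K →* ↥(Cfsg.Lie.Sz F (2 ^ (1 + 1)))}
    (hs : Function.Surjective f) (hc : f.ker ≤ center K) (h2 : IsPGroup 2 f.ker) :
    (∀ z, f z = 1 → z * z = 1) ∧ Nat.card f.ker ∣ 4 := by
  classical
  have := EquivMaps.charP_two hF
  have hel : ∀ z, f z = 1 → z * z = 1 :=
    Swap.sq_eq_one hK hs hc h2 fun L _ _ π c hd => dbl_swap le_rfl hF hd
  refine ⟨hel, ?_⟩
  let C : Data 1 F ↥(Cfsg.Lie.Sz F (2 ^ (1 + 1))) := szData hF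
  have cen : ∀ x, f x = 1 → ∀ y, x * y = y * x := fun x hx y => Swap.comm_ker hc hx y
  -- lifts of `p 0 b`, `p 0 c` commute
  have hzz : ∀ (y z : K) (b c : F), f y = C.p 0 b → f z = C.p 0 c → ⁅y, z⁆ = 1 := by
    intro y z b c hy hz
    by_contra hne
    have hw : f ⁅y, z⁆ = 1 := by
      rw [map_commutatorElement, hy, hz, commutatorElement_eq_one_iff_mul_comm, C.comm_zero]
    obtain ⟨L, iL, fL, q, π, t, hq, hπ, hd, hqw⟩ := Swap.separate hK hs hc h2 hel hw hne
    have hfq : ∀ y, π (q y) = f y := fun y => by rw [← hπ]; rfl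
    obtain ⟨P, zh, Kc, Z, -, -⟩ := dbl_main le_rfl hF hd
    have h3 : ⁅q y, q z⁆ = ⁅zh b, zh c⁆ := by
      apply Kc.comm_eq
      · rw [hfq, hy, Z.pi]
      · rw [hfq, hz, Z.pi]
    have h4 : ⁅zh b, zh c⁆ = 1 := Kc.comm_z le_rfl hF (Z.mem b) (Z.mem c) (Z.pi b) (Z.pi c)
    rw [map_commutatorElement, h3, h4] at hqw
    exact hd.ne hqw.symm
  choose u hu using fun a => hs (C.p a 0)
  choose v hv using fun b => hs (C.p 0 b)
  -- commutators of `p a b` and `p 0 c`
  have hker : ∀ (x z : K) (a b c : F), f x = C.p a b → f z = C.p 0 c → f ⁅x, z⁆ = 1 := by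
    intro x z a b c hx hz
    rw [map_commutatorElement, hx, hz, commutatorElement_eq_one_iff_mul_comm, C.comm_zero]
  have hG : ∀ (x z : K) (a b c : F), f x = C.p a b → f z = C.p 0 c → ⁅x, z⁆ = ⁅u a, v c⁆ := by
    intro x z a b c hx hz
    have h3 : ⁅u a * v b, v c⁆ = ⁅u a, v c⁆ * ⁅v b, v c⁆ := cl cen (hker _ _ 0 b c (hv b) (hv c))
    rw [hzz _ _ b c (hv b) (hv c), mul_one] at h3
    rw [← h3]
    apply comm_eq cen
    · rw [hx, map_mul, hu, hv, C.p_mul_zero, zero_add]
    · rw [hz, hv]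
  have hadd : ∀ a c c', ⁅u a, v (c + c')⁆ = ⁅u a, v c⁆ * ⁅u a, v c'⁆ := by
    intro a c c'
    rw [← cr cen (hker _ _ a 0 c' (hu a) (hv c'))]
    exact (hG _ _ a 0 (c + c') (hu a) (by rw [map_mul, hv, hv, C.p_zero_mul])).symm
  have htor : ∀ (l : Fˣ) (a c : F), ⁅u (l * a), v ((l : F) ^ (1 + 2 ^ (1 + 1)) * c)⁆ = ⁅u a, v c⁆ := by
    intro l a c
    obtain ⟨g, hg⟩ := hs (C.h l)
    have e1 : f (g * u a * g⁻¹) = C.p (l * a) ((l : F) ^ (1 + 2 ^ (1 + 1)) * 0) := by
      rw [map_mul, map_mul, map_inv, hg, hu, C.h_p]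
    have e2 : f (g * v c * g⁻¹) = C.p 0 ((l : F) ^ (1 + 2 ^ (1 + 1)) * c) := by
      rw [map_mul, map_mul, map_inv, hg, hv, C.h_p, mul_zero]
    rw [← hG _ _ _ _ _ e1 e2, ← Cov.conj_comm, ← cen _ (hker _ _ a 0 c (hu a) (hv c)) g, mul_inv_cancel_right]
  -- the additive map
  let φ : Multiplicative F →* K :=
    { toFun := fun w => ⁅u 1, v w.toAdd⁆
      map_one' := by
        show ⁅u 1, v 0⁆ = 1
        exact comm_one_of_ker' cen (by rw [hv, C.p_zero]) _
      map_mul' := fun w w' => hadd 1 w.toAdd w'.toAdd }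
  have hφ : ∀ w : F, φ (Multiplicative.ofAdd w) = ⁅u 1, v w⁆ := fun _ => rfl
  have hφk : φ.range ≤ f.ker := by
    rintro _ ⟨w, rfl⟩
    exact hker _ _ 1 0 w.toAdd (hu 1) (hv _)
  have hφ1 : φ (Multiplicative.ofAdd 1) = 1 := by
    rw [hφ, ← hG (u 1) (u 1 * u 1) 1 0 1 (hu 1) (by
      rw [map_mul, hu, C.p_sq, one_pow])]
    rw [commutatorElement_eq_one_iff_mul_comm]
    group
  have hGφ : ∀ a c : F, a ≠ 0 → ⁅u a, v c⁆ ∈ φ.range := by
    intro a c ha
    have h3 := htor (Units.mk0 a ha)⁻¹ a c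
    have h4 : (((Units.mk0 a ha)⁻¹ : Fˣ) : F) * a = 1 := by
      rw [Units.val_inv_eq_inv_val, Units.val_mk0, inv_mul_cancel₀ ha]
    rw [h4] at h3
    rw [← h3]
    exact ⟨Multiplicative.ofAdd _, rfl⟩
  have hkr : f.ker = φ.range := by
    refine OddLift.Frat.ker_eq hK hs hc h2 hφk ?_
    intro L _ _ q π t hq hπ hNq hd
    have hfq : ∀ y, π (q y) = f y := fun y => by rw [← hπ]; rfl
    obtain ⟨P, zh, Kc, Z, hl, h5⟩ := dbl_main le_rfl hF hd
    obtain ⟨x, hx, hxp⟩ := hl 1 0
    obtain ⟨w, hw⟩ := h5 x hx 1 0 hxp one_ne_zero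
    have h6 : ⁅x, zh w⁆ = ⁅q (u 1), q (v w)⁆ := by
      apply Kc.comm_eq
      · rw [hfq, hxp, hu]
      · rw [hfq, Z.pi, hv]
    have h7 : q ⁅u 1, v w⁆ = 1 := hNq ⟨Multiplicative.ofAdd w, rfl⟩
    rw [map_commutatorElement, ← h6, hw] at h7
    exact hd.ne h7
  rw [hkr]
  -- orders
  have hcF : Nat.card (Multiplicative F) = 8 := by
    rw [Nat.card_congr Multiplicative.toAdd, Nat.card_eq_fintype_card, hF]
    norm_num
  have h8 : Nat.card φ.range * Nat.card φ.ker = 8 := by
    rw [← hcF, ← φ.ker.index_mul_card, Subgroup.index_ker]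
  have h9 : Nat.card φ.ker ≠ 1 := by
    intro h
    have h10 := Subgroup.card_eq_one.1 h
    have h11 : Multiplicative.ofAdd (1 : F) ∈ φ.ker := hφ1
    rw [h10, mem_bot] at h11
    exact one_ne_zero (ofAdd_eq_one.1 h11)
  have h12 : Nat.card φ.range ∣ 8 := ⟨_, h8.symm⟩
  have h13 : Nat.card φ.range ≠ 8 := fun h => by
    rw [h] at h8
    omega
  have h14 : Nat.card φ.range ∈ Nat.divisors 8 := Nat.mem_divisors.2 ⟨h12, by norm_num⟩
  have h15 : Nat.divisors 8 = {1, 2, 4, 8} := by decide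
  rw [h15] at h14
  simp only [Finset.mem_insert, Finset.mem_singleton] at h14
  rcases h14 with h | h | h | h
  · rw [h]; norm_num
  · rw [h]; norm_num
  · rw [h]
  · exact absurd h h13

/-! ### Quasisimple groups -/

/-- `Sz(8)` as a quotient -/
def IsSzEight (X : Type u) [Group X] : Prop :=
  ∃ (F : Type) (_ : Field F) (_ : Fintype F), Fintype.card F = 8 ∧ Nonempty (X ≃* ↥(Cfsg.Lie.Sz F 4))

/-- **The centre**, if it is a 2-group. -/
theorem center_elem {K : Type u} [Group K] [Finite K] (hK : commutator K = ⊤) (h2 : IsPGroup 2 (center K))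
    (hX : IsSzEight (K ⧸ center K)) : (∀ z ∈ center K, z * z = 1) ∧ Nat.card (center K) ∣ 4 := by
  obtain ⟨F, _, _, hF, ⟨e⟩⟩ := hX
  let π : K →* ↥(Cfsg.Lie.Sz F (2 ^ (1 + 1))) := e.toMonoidHom.comp (QuotientGroup.mk' (center K))
  have hker : π.ker = center K := by
    ext x
    rw [MonoidHom.mem_ker]
    show e (QuotientGroup.mk' (center K) x) = 1 ↔ _
    rw [map_eq_one_iff e e.injective, QuotientGroup.mk'_apply, QuotientGroup.eq_one_iff]
  have hs : Function.Surjective π := e.surjective.comp (QuotientGroup.mk'_surjective _)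
  obtain ⟨h3, h4⟩ := ker (F := F) hF hK hs hker.le (by rw [hker]; exact h2)
  rw [hker] at h4
  refine ⟨fun z hz => h3 z ?_, h4⟩
  rw [← MonoidHom.mem_ker, hker]
  exact hz

/-- **A cyclic centre** has order dividing two. -/
theorem center_cyc {K : Type u} [Group K] [Finite K] (hK : commutator K = ⊤) (h2 : IsPGroup 2 (center K))
    (hc : IsCyclic (center K)) (hX : IsSzEight (K ⧸ center K)) : Nat.card (center K) ∣ 2 := by
  obtain ⟨h3, -⟩ := center_elem hK h2 hX
  obtain ⟨g, hg⟩ := hc.exists_generator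
  rw [← orderOf_eq_card_of_forall_mem_zpowers hg]
  refine orderOf_dvd_of_pow_eq_one ?_
  rw [pow_two]
  exact Subtype.ext (h3 g g.2)

end Cfsg.Agent.KFacts.Mult.SzEight

end
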